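import Groth.Prelude.Def_GrSyz
import Mathlib.RingTheory.MvPolynomial.Homogeneous
import Mathlib.RingTheory.Polynomial.Basic
import Mathlib.RingTheory.Finiteness.Basic

/-! Graded modules over a standard graded polynomial ring, through their projections. -/

namespace Groth.Agent.GrSyz

open Finset MvPolynomial

universe u

noncomputable section

variable {k : Type u} [Field k] {n : ℕ}

local notation "S" => MvPolynomial (Fin n) k

/-- component of degree `g` -/
def hc (g : ℤ) : S →ₗ[k] S := weightedHomogeneousComponent (fun _ : Fin n => (1 : ℤ)) g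

lemma weight_one (d : Fin n →₀ ℕ) : Finsupp.weight (fun _ : Fin n => (1 : ℤ)) d = ∑ i, (d i : ℤ) := by
  rw [Finsupp.weight_apply, Finsupp.sum_fintype _ _ (fun i => by simp)]
  simp

lemma coeff_hc (g : ℤ) (a : S) (d : Fin n →₀ ℕ) :
    coeff d (hc g a) = if ∑ i, (d i : ℤ) = g then coeff d a else 0 := by
  rw [← weight_one]
  exact coeff_weightedHomogeneousComponent g a d

lemma mem_iff_hc (g : ℤ) (a : S) : a ∈ _root_.GrSyz.stdGr k (Fin n) g ↔ hc g a = a := by
  constructor
  · intro h
    ext d
    rw [coeff_hc]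
    split_ifs with hd
    · rfl
    · by_contra hne
      exact hd (by rw [← weight_one]; exact h fun h0 => hne h0.symm)
  · intro h
    rw [← h]
    exact weightedHomogeneousComponent_mem _ _ _

lemma hc_mem (g : ℤ) (a : S) : hc g a ∈ _root_.GrSyz.stdGr k (Fin n) g :=
  weightedHomogeneousComponent_mem _ _ _

lemma hc_hc (g h : ℤ) (a : S) : hc h (hc g a) = if h = g then hc g a else 0 := by
  ext d
  simp only [coeff_hc, apply_ite (coeff d), coeff_zero]
  split_ifs <;> simp_all

lemma hc_sum (a : S) : ∃ s : Finset ℤ, ∀ t, s ⊆ t → ∑ g ∈ t, hc g a = a := by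
  classical
  refine ⟨a.support.image (fun d => ∑ i, (d i : ℤ)), fun t ht => ?_⟩
  ext d
  rw [coeff_sum]
  simp only [coeff_hc]
  rw [Finset.sum_ite_eq]
  split_ifs with h
  · rfl
  · by_contra hne
    exact h (ht (mem_image.2 ⟨d, by simpa [eq_comm] using hne, rfl⟩))

lemma hc_neg {g : ℤ} (hg : g < 0) (a : S) : hc g a = 0 := by
  ext d
  rw [coeff_hc, if_neg, coeff_zero]
  have : (0 : ℤ) ≤ ∑ i, (d i : ℤ) := sum_nonneg fun i _ => Int.natCast_nonneg _
  omega

lemma hc_zero (a : S) : hc 0 a = C (constantCoeff a) := by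
  classical
  ext d
  rw [coeff_hc, coeff_C]
  by_cases hd : d = 0
  · subst hd; simp [constantCoeff_eq]
  · rw [if_neg (fun h => hd ?_), if_neg (fun h => hd h.symm)]
    ext i
    have := (Finset.sum_eq_zero_iff_of_nonneg (fun i _ => Int.natCast_nonneg (d i))).1 h i (mem_univ i)
    exact_mod_cast this

lemma stdGr_eq_zero_of_neg {g : ℤ} (hg : g < 0) {a : S} (ha : a ∈ _root_.GrSyz.stdGr k (Fin n) g) : a = 0 := by
  rw [← (mem_iff_hc g a).1 ha, hc_neg hg]

lemma stdGr_constantCoeff {g : ℤ} {a : S} (ha : a ∈ _root_.GrSyz.stdGr k (Fin n) g) (hg : g ≠ 0) : constantCoeff a = 0 := by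
  rw [constantCoeff_eq, ← (mem_iff_hc g a).1 ha, coeff_hc, if_neg]
  simpa using hg.symm

lemma stdGr_eq_C {a : S} (ha : a ∈ _root_.GrSyz.stdGr k (Fin n) 0) : a = C (constantCoeff a) := by
  conv_lhs => rw [← (mem_iff_hc 0 a).1 ha, hc_zero]

lemma C_mem_stdGr (c : k) : (C c : S) ∈ _root_.GrSyz.stdGr k (Fin n) 0 := isWeightedHomogeneous_C _ c

/-- the irrelevant ideal consists of the polynomials without constant term -/
lemma mem_irrel_iff (a : S) :
    a ∈ (_root_.GrSyz.irrel (_root_.GrSyz.stdGr k (Fin n))).toIdeal ↔ constantCoeff a = 0 := by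
  constructor
  · intro h
    change a ∈ Ideal.span _ at h
    induction h using Submodule.span_induction with
    | mem x hx =>
      obtain ⟨g, hg, hx⟩ := hx
      exact stdGr_constantCoeff hx (by omega)
    | zero => simp
    | add x y _ _ hx hy => simp [hx, hy]
    | smul r x _ hx => simp [hx]
  · intro h
    change a ∈ Ideal.span _
    obtain ⟨s, hs⟩ := hc_sum a
    rw [← hs s le_rfl]
    refine Ideal.sum_mem _ fun g _ => ?_
    rcases lt_trichotomy g 0 with hg | hg | hg
    · rw [hc_neg hg]; exact zero_mem _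
    · rw [hg, hc_zero, h, map_zero]; exact zero_mem _
    · exact Ideal.subset_span ⟨g, hg, hc_mem g a⟩

variable (k n) in
/-- A grading given by projections. -/
structure Gr (M : Type u) [AddCommGroup M] [Module k M] [Module (MvPolynomial (Fin n) k) M] where
  pr : ℤ → M →ₗ[k] M
  pr_pr : ∀ g h m, pr h (pr g m) = if h = g then pr g m else 0
  exists_sum : ∀ m, ∃ s : Finset ℤ, ∀ t, s ⊆ t → ∑ g ∈ t, pr g m = m
  pr_smul : ∀ (i g : ℤ) (a : MvPolynomial (Fin n) k), a ∈ _root_.GrSyz.stdGr k (Fin n) i → ∀ m,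
    pr g (a • m) = a • pr (g - i) m

namespace Gr

variable {M : Type u} [AddCommGroup M] [Module k M] [Module (MvPolynomial (Fin n) k) M] (G : Gr k n M)

/-- homogeneous of degree `g` -/
def Hom (g : ℤ) (m : M) : Prop := G.pr g m = m

lemma hom_pr (g : ℤ) (m : M) : G.Hom g (G.pr g m) := by simp [Hom, G.pr_pr]

lemma pr_of_hom {g : ℤ} {m : M} (h : G.Hom g m) (g' : ℤ) : G.pr g' m = if g' = g then m else 0 := by
  conv_lhs => rw [← h, G.pr_pr]
  split_ifs <;> simp [show G.pr g m = m from h]

lemma pr_smul_hom {e : ℤ} {m : M} (hm : G.Hom e m) (g : ℤ) (a : S) :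
    G.pr g (a • m) = hc (g - e) a • m := by
  classical
  obtain ⟨s, hs⟩ := hc_sum a
  conv_lhs => rw [← hs (s ∪ {g - e}) subset_union_left, sum_smul, map_sum]
  rw [Finset.sum_eq_single (g - e)]
  · rw [G.pr_smul _ _ _ (hc_mem _ a), G.pr_of_hom hm, if_pos (by ring)]
  · intro i _ hi
    rw [G.pr_smul _ _ _ (hc_mem _ a), G.pr_of_hom hm, if_neg (by omega), smul_zero]
  · intro h
    exact absurd (mem_union_right _ (mem_singleton_self _)) h

/-- stability under the projections -/
def Closed (N : Submodule S M) : Prop := ∀ g, ∀ m ∈ N, G.pr g m ∈ N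

lemma closed_top : G.Closed ⊤ := fun _ _ _ => trivial

/-- generated by homogeneous elements implies closed -/
lemma closed_span {ι : Type*} [Fintype ι] (f : ι → M) (deg : ι → ℤ) (hf : ∀ b, G.Hom (deg b) (f b)) :
    G.Closed (LinearMap.range (Fintype.linearCombination S f)) := by
  rintro g _ ⟨v, rfl⟩
  refine ⟨fun b => hc (g - deg b) (v b), ?_⟩
  simp only [Fintype.linearCombination_apply, map_sum]
  exact sum_congr rfl fun b _ => (G.pr_smul_hom (hf b) g (v b)).symm

lemma exists_gens {N : Submodule S M} (hN : G.Closed N) (hfg : N.FG) :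
    ∃ (r : ℕ) (f : Fin r → M) (deg : Fin r → ℤ), (∀ b, G.Hom (deg b) (f b)) ∧
      LinearMap.range (Fintype.linearCombination S f) = N := by
  classical
  obtain ⟨T, rfl⟩ := hfg
  choose s hs using fun x => G.exists_sum x
  let U : Finset (M × ℤ) := T.biUnion fun x => (s x).image fun g => (G.pr g x, g)
  refine ⟨U.card, fun b => ((U.equivFin.symm b : U) : M × ℤ).1, fun b => ((U.equivFin.symm b : U) : M × ℤ).2,
    fun b => ?_, ?_⟩
  · obtain ⟨x, -, hx⟩ := mem_biUnion.1 (U.equivFin.symm b).2
    obtain ⟨g, -, hg⟩ := mem_image.1 hx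
    simp only
    rw [← hg]
    exact G.hom_pr g x
  · rw [Fintype.range_linearCombination]
    refine le_antisymm (Submodule.span_le.2 ?_) (Submodule.span_le.2 ?_)
    · rintro _ ⟨b, rfl⟩
      obtain ⟨x, hx, hx'⟩ := mem_biUnion.1 (U.equivFin.symm b).2
      obtain ⟨g, -, hg⟩ := mem_image.1 hx'
      simp only [← hg]
      exact hN g x (Submodule.subset_span hx)
    · intro x hx
      rw [SetLike.mem_coe, ← hs x (s x) le_rfl]
      refine Submodule.sum_mem _ fun g hg => Submodule.subset_span ?_
      refine ⟨U.equivFin ⟨(G.pr g x, g), mem_biUnion.2 ⟨x, hx, mem_image.2 ⟨g, hg, rfl⟩⟩⟩, ?_⟩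
      simp

/-- minimal homogeneous generators -/
lemma exists_min_gens {N : Submodule S M} (hN : G.Closed N) (hfg : N.FG) :
    ∃ (r : ℕ) (f : Fin r → M) (deg : Fin r → ℤ), (∀ b, G.Hom (deg b) (f b)) ∧
      LinearMap.range (Fintype.linearCombination S f) = N ∧
      ∀ v, Fintype.linearCombination S f v = 0 → ∀ b, constantCoeff (v b) = 0 := by
  classical
  have hex : ∃ r, ∃ (f : Fin r → M) (deg : Fin r → ℤ), (∀ b, G.Hom (deg b) (f b)) ∧
      LinearMap.range (Fintype.linearCombination S f) = N := by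
    obtain ⟨r, f, deg, h⟩ := G.exists_gens hN hfg
    exact ⟨r, f, deg, h⟩
  obtain ⟨f, deg, hf, hr⟩ := Nat.find_spec hex
  refine ⟨_, f, deg, hf, hr, fun v hv b => ?_⟩
  by_contra hb
  revert f deg hf hr v b
  generalize hR : Nat.find hex = r
  intro f deg hf hr v hv b hb
  match r, f, deg, hf, hr, v, b, hv, hb, hR with
  | 0, _, _, _, _, _, b, _, _, _ => exact b.elim0
  | r' + 1, f, deg, hf, hr, v, b, hv, hb, hR =>
    have h0 : ∑ a, hc (deg b - deg a) (v a) • f a = 0 := by
      have := congrArg (G.pr (deg b)) hv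
      rw [Fintype.linearCombination_apply, map_sum, map_zero] at this
      rw [← this]
      exact sum_congr rfl fun a _ => (G.pr_smul_hom (hf a) _ _).symm
    set P := Submodule.span S (Set.range (f ∘ b.succAbove)) with hP
    have hbP : f b ∈ P := by
      rw [Fin.sum_univ_succAbove _ b, sub_self, hc_zero] at h0
      set c := constantCoeff (v b) with hc0
      have hmem : (C c : S) • f b ∈ P := by
        rw [eq_neg_of_add_eq_zero_left h0]
        exact neg_mem (Submodule.sum_mem _ fun a _ => Submodule.smul_mem _ _ (Submodule.subset_span ⟨a, rfl⟩))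
      have := P.smul_mem (C c⁻¹) hmem
      rwa [smul_smul, ← C_mul, inv_mul_cancel₀ hb, C_1, one_smul] at this
    refine Nat.find_min hex (show r' < Nat.find hex by omega) ⟨f ∘ b.succAbove, deg ∘ b.succAbove, fun a => hf _, ?_⟩
    rw [← hr, Fintype.range_linearCombination, Fintype.range_linearCombination]
    refine le_antisymm (Submodule.span_mono (by rintro _ ⟨a, rfl⟩; exact ⟨_, rfl⟩)) (Submodule.span_le.2 ?_)
    rintro _ ⟨a, rfl⟩
    by_cases hab : a = b
    · rw [hab]; exact hbP
    · obtain ⟨a', rfl⟩ := Fin.exists_succAbove_eq hab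
      exact Submodule.subset_span ⟨a', rfl⟩

end Gr

/-- the grading of a free module with basis degrees `deg` -/
def free {r : ℕ} (deg : Fin r → ℤ) : Gr k n (Fin r → MvPolynomial (Fin n) k) where
  pr g := LinearMap.pi fun b => (hc (g - deg b)).comp (LinearMap.proj b)
  pr_pr g h v := by
    funext b
    simp only [LinearMap.pi_apply, LinearMap.comp_apply, LinearMap.proj_apply, hc_hc]
    split_ifs with h1 h2 h2 <;> first | rfl | omega
  exists_sum v := by
    classical
    choose s hs using fun b => hc_sum (v b)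
    refine ⟨univ.biUnion fun b => (s b).image (· + deg b), fun t ht => funext fun b => ?_⟩
    simp only [sum_apply, LinearMap.pi_apply, LinearMap.comp_apply, LinearMap.proj_apply]
    rw [← Finset.sum_image (f := fun g => hc g (v b)) (g := fun g => g - deg b) (fun x _ y _ h => by simpa using h)]
    refine hs b _ fun g hg => mem_image.2 ⟨g + deg b, ht ?_, by ring⟩
    exact mem_biUnion.2 ⟨b, mem_univ b, mem_image.2 ⟨g, hg, rfl⟩⟩
  pr_smul i g a ha v := by
    funext b
    simp only [LinearMap.pi_apply, LinearMap.comp_apply, LinearMap.proj_apply, Pi.smul_apply, smul_eq_mul]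
    ext d
    obtain ⟨s, hs⟩ := hc_sum (v b)
    classical
    conv_lhs => rw [← hs (s ∪ {g - i - deg b}) subset_union_left, mul_sum, map_sum]
    rw [Finset.sum_eq_single (g - i - deg b)]
    · rw [(mem_iff_hc _ _).1 (show a * hc (g - i - deg b) (v b) ∈ _root_.GrSyz.stdGr k (Fin n) (g - deg b) by
        have := SetLike.GradedMul.mul_mem ha (hc_mem (g - i - deg b) (v b))
        rwa [show i + (g - i - deg b) = g - deg b by ring] at this)]
    · intro j _ hj
      rw [← (mem_iff_hc _ _).1 (SetLike.GradedMul.mul_mem ha (hc_mem j (v b))), hc_hc, if_neg (by omega)]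
    · intro h
      exact absurd (mem_union_right _ (mem_singleton_self _)) h

@[simp] lemma free_pr_apply {r : ℕ} (deg : Fin r → ℤ) (g : ℤ) (v : Fin r → S) (b : Fin r) :
    (free deg).pr g v b = hc (g - deg b) (v b) := rfl

lemma free_hom_iff {r : ℕ} (deg : Fin r → ℤ) (g : ℤ) (v : Fin r → S) :
    (free deg).Hom g v ↔ ∀ b, v b ∈ _root_.GrSyz.stdGr k (Fin n) (g - deg b) := by
  simp only [Gr.Hom, funext_iff, free_pr_apply, mem_iff_hc]

variable {M : Type u} [AddCommGroup M] [Module k M] [Module (MvPolynomial (Fin n) k) M] (G : Gr k n M)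

lemma pr_lc {r : ℕ} (f : Fin r → M) (deg : Fin r → ℤ) (hf : ∀ b, G.Hom (deg b) (f b)) (g : ℤ) (v : Fin r → S) :
    G.pr g (Fintype.linearCombination S f v) = Fintype.linearCombination S f ((free deg).pr g v) := by
  simp only [Fintype.linearCombination_apply, map_sum, free_pr_apply]
  exact sum_congr rfl fun b _ => G.pr_smul_hom (hf b) g (v b)

lemma closed_ker {r : ℕ} (f : Fin r → M) (deg : Fin r → ℤ) (hf : ∀ b, G.Hom (deg b) (f b)) :
    (free deg).Closed (LinearMap.ker (Fintype.linearCombination S f)) := fun g v hv => by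
  rw [LinearMap.mem_ker] at hv ⊢
  rw [← pr_lc G f deg hf, hv, map_zero]

section ofDecomp

variable [IsScalarTower k (MvPolynomial (Fin n) k) M] (ℳ : ℤ → Submodule k M) [DirectSum.Decomposition ℳ]
  [SetLike.GradedSMul (_root_.GrSyz.stdGr k (Fin n)) ℳ]

/-- the grading attached to a decomposition -/
def ofDecomp : Gr k n M where
  pr g :=
    { toFun := fun m => (DirectSum.decompose ℳ m g : M)
      map_add' := fun a b => by simp [DirectSum.decompose_add]
      map_smul' := fun c a => by rw [DirectSum.decompose_smul]; rfl }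
  pr_pr g h m := by
    change (DirectSum.decompose ℳ (DirectSum.decompose ℳ m g : M) h : M) = _
    split_ifs with hgh
    · subst hgh; exact DirectSum.decompose_of_mem_same ℳ (SetLike.coe_mem _)
    · exact DirectSum.decompose_of_mem_ne ℳ (SetLike.coe_mem _) (Ne.symm hgh)
  exists_sum m := by
    classical
    refine ⟨(DirectSum.decompose ℳ m).support, fun t ht => ?_⟩
    conv_rhs => rw [← DirectSum.sum_support_decompose ℳ m]
    refine (Finset.sum_subset ht fun g _ hg => ?_).symm
    simpa using hg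
  pr_smul i g a ha m := by
    classical
    change (DirectSum.decompose ℳ (a • m) g : M) = a • (DirectSum.decompose ℳ m (g - i) : M)
    induction m using DirectSum.Decomposition.inductionOn ℳ with
    | zero => simp
    | homogeneous x =>
      rename_i j
      have h1 : a • (x : M) ∈ ℳ (i + j) := SetLike.GradedSMul.smul_mem ha x.2
      by_cases hg : g = i + j
      · rw [show g - i = j by omega, hg, DirectSum.decompose_of_mem_same ℳ h1, DirectSum.decompose_of_mem_same ℳ x.2]
      · rw [DirectSum.decompose_of_mem_ne ℳ h1 (Ne.symm hg),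
          DirectSum.decompose_of_mem_ne ℳ x.2 (show j ≠ g - i by omega), smul_zero]
    | add a b ha hb =>
      rw [smul_add]
      simp only [DirectSum.decompose_add, DirectSum.add_apply, Submodule.coe_add, smul_add, ha, hb]

lemma ofDecomp_hom_iff (g : ℤ) (m : M) : (ofDecomp (n := n) ℳ).Hom g m ↔ m ∈ ℳ g :=
  ⟨fun h => h ▸ SetLike.coe_mem (DirectSum.decompose ℳ m g), fun h => DirectSum.decompose_of_mem_same ℳ h⟩

end ofDecomp

end

end Groth.Agent.GrSyz
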