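import Groth.Agent.GrSyz.Res
import Mathlib.LinearAlgebra.Dimension.Finite
import Mathlib.RingTheory.OrzechProperty
import Mathlib.LinearAlgebra.Matrix.DotProduct

/-! Uniqueness of minimal resolutions up to isomorphism of the terms. -/

namespace Groth.Agent.GrSyz

open Finset MvPolynomial

universe u

noncomputable section

variable {k : Type u} [Field k] {n : ℕ}

local notation "S" => MvPolynomial (Fin n) k

lemma free_single_hom {r : ℕ} (deg : Fin r → ℤ) (b : Fin r) :
    (free (k := k) (n := n) deg).Hom (deg b) (Pi.single b 1) := by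
  classical
  refine (free_hom_iff _ _ _).2 fun a => ?_
  rcases eq_or_ne a b with rfl | h
  · rw [Pi.single_eq_same, sub_self]; exact C_1 (R := k) (σ := Fin n) ▸ C_mem_stdGr 1
  · rw [Pi.single_eq_of_ne h]; exact Submodule.zero_mem _

variable {M : Type u} [AddCommGroup M] [Module k M] [Module (MvPolynomial (Fin n) k) M] (G : Gr k n M)

/-- a degree zero endomorphism congruent to the identity is onto -/
lemma surj_of_cc {r : ℕ} (deg : Fin r → ℤ) (T : (Fin r → S) →ₗ[S] (Fin r → S))
    (hT : ∀ b, (free deg).Hom (deg b) (T (Pi.single b 1)))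
    (hcc : ∀ b a, constantCoeff ((Pi.single b 1 - T (Pi.single b 1) : Fin r → S) a) = 0) :
    Function.Surjective T := by
  classical
  have hrel : WellFounded fun a b : Fin r => deg a < deg b := by
    haveI : Std.Irrefl fun a b : Fin r => deg a < deg b := ⟨fun a => lt_irrefl _⟩
    haveI : IsTrans (Fin r) fun a b => deg a < deg b := ⟨fun a b c => lt_trans⟩
    exact Finite.wellFounded_of_trans_of_irrefl _
  have key : ∀ b, Pi.single b (1 : S) ∈ LinearMap.range T := by
    intro b
    induction b using hrel.induction with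
    | h b ih =>
      set w : Fin r → S := Pi.single b 1 - T (Pi.single b 1) with hw
      have hwhom : ∀ a, w a ∈ _root_.GrSyz.stdGr k (Fin n) (deg b - deg a) := fun a => by
        rw [hw, Pi.sub_apply]
        exact Submodule.sub_mem _ ((free_hom_iff _ _ _).1 (free_single_hom deg b) a) ((free_hom_iff _ _ _).1 (hT b) a)
      have hwa : ∀ a, ¬ deg a < deg b → w a = 0 := fun a ha => by
        rcases (sub_nonpos.2 (not_lt.1 ha)).lt_or_eq with h' | h'
        · exact stdGr_eq_zero_of_neg h' (hwhom a)
        · have := hwhom a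
          rw [h'] at this
          rw [stdGr_eq_C this, hcc b a, map_zero]
      have hmem : w ∈ LinearMap.range T := by
        rw [show w = ∑ a, w a • (Pi.single a (1 : S) : Fin r → S) from pi_eq_sum_univ' w]
        refine Submodule.sum_mem _ fun a _ => ?_
        by_cases ha : deg a < deg b
        · exact Submodule.smul_mem _ _ (ih a ha)
        · rw [hwa a ha, zero_smul]; exact Submodule.zero_mem _
      have := add_mem hmem (⟨Pi.single b 1, rfl⟩ : T (Pi.single b 1) ∈ LinearMap.range T)
      rwa [hw, sub_add_cancel] at this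
  intro v
  change v ∈ LinearMap.range T
  rw [pi_eq_sum_univ' v]
  exact Submodule.sum_mem _ fun a _ => Submodule.smul_mem _ _ (key a)

/-- comparison of two minimal families of homogeneous generators -/
lemma compare {r r' : ℕ} (f : Fin r → M) (deg : Fin r → ℤ) (f' : Fin r' → M) (deg' : Fin r' → ℤ)
    (hf : ∀ b, G.Hom (deg b) (f b)) (hf' : ∀ b, G.Hom (deg' b) (f' b))
    (hr : LinearMap.range (Fintype.linearCombination S f) = LinearMap.range (Fintype.linearCombination S f'))
    (hm : ∀ v, Fintype.linearCombination S f v = 0 → ∀ b, constantCoeff (v b) = 0)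
    (hm' : ∀ v, Fintype.linearCombination S f' v = 0 → ∀ b, constantCoeff (v b) = 0) :
    ∃ A : (Fin r → S) ≃ₗ[S] (Fin r' → S),
      (∀ v, Fintype.linearCombination S f' (A v) = Fintype.linearCombination S f v) ∧
      (∀ g v, (free deg').pr g (A v) = A ((free deg).pr g v)) ∧
      ∀ j, (univ.filter fun b => deg b = j).card = (univ.filter fun b => deg' b = j).card := by
  classical
  have lift : ∀ {p q : ℕ} (e : Fin p → M) (de : Fin p → ℤ) (h : Fin q → M) (dh : Fin q → ℤ),
      (∀ b, G.Hom (de b) (e b)) → (∀ b, G.Hom (dh b) (h b)) →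
      LinearMap.range (Fintype.linearCombination S e) = LinearMap.range (Fintype.linearCombination S h) →
      ∃ a : Fin p → (Fin q → S), ∀ b, (free dh).Hom (de b) (a b) ∧ Fintype.linearCombination S h (a b) = e b := by
    intro p q e de h dh he hh heq
    have : ∀ b, ∃ v, (free dh).Hom (de b) v ∧ Fintype.linearCombination S h v = e b := fun b => by
      have hb : e b ∈ LinearMap.range (Fintype.linearCombination S h) := by
        rw [← heq]; exact ⟨Pi.single b 1, by simp [Fintype.linearCombination_apply_single]⟩
      obtain ⟨v, hv⟩ := hb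
      exact ⟨(free dh).pr (de b) v, Gr.hom_pr _ _ _, by rw [← pr_lc G h dh hh, hv]; exact he b⟩
    choose a ha using this
    exact ⟨a, ha⟩
  obtain ⟨a, ha⟩ := lift f deg f' deg' hf hf' hr
  obtain ⟨a', ha'⟩ := lift f' deg' f deg hf' hf hr.symm
  set A := Fintype.linearCombination S a with hA
  set B := Fintype.linearCombination S a' with hB
  have comm : ∀ {p q : ℕ} (e : Fin p → M) (h : Fin q → M) (x : Fin p → (Fin q → S)),
      (∀ b, Fintype.linearCombination S h (x b) = e b) → ∀ v,
      Fintype.linearCombination S h (Fintype.linearCombination S x v) = Fintype.linearCombination S e v := by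
    intro p q e h x hx v
    simp only [Fintype.linearCombination_apply (S) x, map_sum, map_smul, hx]
    rw [Fintype.linearCombination_apply]
  have hAc := comm f f' a fun b => (ha b).2
  have hBc := comm f' f a' fun b => (ha' b).2
  have hBA : ∀ b c, constantCoeff ((Pi.single b 1 - B (A (Pi.single b 1)) : Fin r → S) c) = 0 := fun b c =>
    hm _ (by rw [map_sub, hB, hBc, hA, hAc, sub_self]) c
  have hAB : ∀ b c, constantCoeff ((Pi.single b 1 - A (B (Pi.single b 1)) : Fin r' → S) c) = 0 := fun b c =>
    hm' _ (by rw [map_sub, hA, hAc, hB, hBc, sub_self]) c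
  have hAsingle : ∀ b, A (Pi.single b 1) = a b := fun b => by rw [hA, Fintype.linearCombination_apply_single, one_smul]
  have hBsingle : ∀ b, B (Pi.single b 1) = a' b := fun b => by rw [hB, Fintype.linearCombination_apply_single, one_smul]
  have hApr : ∀ g v, (free deg').pr g (A v) = A ((free deg).pr g v) := fun g v =>
    pr_lc (free deg') a deg (fun b => (ha b).1) g v
  have hBpr : ∀ g v, (free deg).pr g (B v) = B ((free deg').pr g v) := fun g v =>
    pr_lc (free deg) a' deg' (fun b => (ha' b).1) g v
  have hBAs : Function.Surjective (B ∘ₗ A) := surj_of_cc deg (B ∘ₗ A) (fun b => by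
    change (free deg).pr _ (B (A _)) = B (A _)
    rw [hBpr, hApr]
    rw [show (free deg).pr (deg b) (Pi.single b 1) = (Pi.single b 1 : Fin r → S) from free_single_hom deg b]) hBA
  have hABs : Function.Surjective (A ∘ₗ B) := surj_of_cc deg' (A ∘ₗ B) (fun b => by
    change (free deg').pr _ (A (B _)) = A (B _)
    rw [hApr, hBpr]
    rw [show (free deg').pr (deg' b) (Pi.single b 1) = (Pi.single b 1 : Fin r' → S) from free_single_hom deg' b]) hAB
  have hinj : Function.Injective (B ∘ₗ A) := OrzechProperty.injective_of_surjective_endomorphism _ hBAs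
  have hbij : Function.Bijective A := ⟨fun x y h => hinj (by simp [h]), fun y => by
    obtain ⟨x, hx⟩ := hABs y
    exact ⟨B x, hx⟩⟩
  refine ⟨LinearEquiv.ofBijective A hbij, fun v => hAc v, hApr, fun j => ?_⟩
  have card_le : ∀ {p q : ℕ} (de : Fin p → ℤ) (dh : Fin q → ℤ) (x : Fin p → (Fin q → S)) (y : Fin q → (Fin p → S)),
      (∀ b, (free dh).Hom (de b) (x b)) → (∀ b, (free de).Hom (dh b) (y b)) →
      (∀ b c, constantCoeff ((Pi.single b 1 - Fintype.linearCombination S y (x b) : Fin p → S) c) = 0) →
      (univ.filter fun b => de b = j).card ≤ (univ.filter fun b => dh b = j).card := by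
    intro p q de dh x y hx hy hc
    let C : Matrix {c // dh c = j} {b // de b = j} k := Matrix.of fun c b => constantCoeff (x b.1 c.1)
    let D : Matrix {b // de b = j} {c // dh c = j} k := Matrix.of fun b c => constantCoeff (y c.1 b.1)
    have h1 : D * C = 1 := by
      ext b b'
      have hs := hc b'.1 b.1
      rw [Pi.sub_apply, map_sub, sub_eq_zero, Fintype.linearCombination_apply, Finset.sum_apply, map_sum] at hs
      rw [Matrix.one_apply, Matrix.mul_apply]
      have : (if b = b' then (1 : k) else 0) = constantCoeff ((Pi.single b'.1 1 : Fin p → S) b.1) := by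
        rw [Pi.single_apply, apply_ite constantCoeff, map_one, map_zero]
        simp [Subtype.ext_iff]
      rw [this, hs]
      rw [← Finset.sum_subset (Finset.filter_subset (fun c => dh c = j) univ)]
      · rw [Finset.sum_subtype _ (fun c => by simp : ∀ c, c ∈ univ.filter (fun c => dh c = j) ↔ dh c = j)]
        exact sum_congr rfl fun c _ => by simp [C, D, mul_comm]
      · intro c _ hcj
        simp only [mem_filter, mem_univ, true_and] at hcj
        rw [Pi.smul_apply, smul_eq_mul, map_mul,
          stdGr_constantCoeff ((free_hom_iff _ _ _).1 (hx b'.1) c) (by rw [b'.2]; omega), zero_mul]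
    have hi : Function.Injective C.mulVecLin := Function.LeftInverse.injective (g := D.mulVecLin) fun v => by
      simp [Matrix.mulVec_mulVec, h1]
    have := LinearMap.finrank_le_finrank_of_injective hi
    simpa [Fintype.card_subtype] using this
  refine le_antisymm (card_le deg deg' a a' (fun b => (ha b).1) (fun b => (ha' b).1) fun b c => ?_)
    (card_le deg' deg a' a (fun b => (ha' b).1) (fun b => (ha b).1) fun b c => ?_)
  · rw [← hAsingle]; exact hBA b c
  · rw [← hBsingle]; exact hAB b c

variable {N : Type u} [AddCommGroup N] [Module k N] [Module (MvPolynomial (Fin n) k) N]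
  [IsScalarTower k (MvPolynomial (Fin n) k) N] {ℳ : ℤ → Submodule k N} [DirectSum.Decomposition ℳ]
  [SetLike.GradedSMul (_root_.GrSyz.stdGr k (Fin n)) ℳ]

/-- the kernel of the map out of the `i`-th term -/
def kerAt (F : _root_.GrSyz.FreeRes (_root_.GrSyz.stdGr k (Fin n)) ℳ) : (i : ℕ) → Submodule S (Fin (F.rk i) → S)
  | 0 => LinearMap.ker F.augLin
  | i + 1 => LinearMap.ker (F.dLin i)

lemma range_dLin (F : _root_.GrSyz.FreeRes (_root_.GrSyz.stdGr k (Fin n)) ℳ) :
    ∀ i, LinearMap.range (F.dLin i) = kerAt F i
  | 0 => F.exact_zero.symm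
  | i + 1 => (F.exact_succ i).symm

variable {F F' : _root_.GrSyz.FreeRes (_root_.GrSyz.stdGr k (Fin n)) ℳ}

theorem compare_res (hF : F.IsMinimal (_root_.GrSyz.irrel (_root_.GrSyz.stdGr k (Fin n))).toIdeal)
    (hF' : F'.IsMinimal (_root_.GrSyz.irrel (_root_.GrSyz.stdGr k (Fin n))).toIdeal) (i : ℕ) :
    ∃ A : (Fin (F.rk i) → S) ≃ₗ[S] (Fin (F'.rk i) → S),
      (∀ g v, (free (F'.deg i)).pr g (A v) = A ((free (F.deg i)).pr g v)) ∧
      (∀ v, A v ∈ kerAt F' i ↔ v ∈ kerAt F i) ∧
      ∀ j, F.betti i j = F'.betti i j := by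
  induction i with
  | zero =>
    obtain ⟨A, hA, hpr, hc⟩ := compare (ofDecomp ℳ) F.aug (F.deg 0) F'.aug (F'.deg 0) (aug_hom F) (aug_hom F')
      (by rw [LinearMap.range_eq_top.2 F.aug_surjective, LinearMap.range_eq_top.2 F'.aug_surjective])
      (fun v hv => cc_ker_aug hF hv) (fun v hv => cc_ker_aug hF' hv)
    refine ⟨A, hpr, fun v => ?_, hc⟩
    change Fintype.linearCombination S F'.aug (A v) = 0 ↔ Fintype.linearCombination S F.aug v = 0
    rw [hA]
  | succ i ih =>
    obtain ⟨A, hpr, hker, -⟩ := ih
    let f : Fin (F.rk (i + 1)) → (Fin (F'.rk i) → S) := fun b => A (col F i b)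
    have hflc : ∀ v, Fintype.linearCombination S f v = A (F.dLin i v) := fun v => by
      simp only [dLin_eq, Fintype.linearCombination_apply, map_sum, map_smul, f]
    obtain ⟨A', hA', hpr', hc⟩ := compare (free (F'.deg i)) f (F.deg (i + 1)) (col F' i) (F'.deg (i + 1))
      (fun b => by
        change (free (F'.deg i)).pr _ (A _) = A _
        rw [hpr, show (free (F.deg i)).pr (F.deg (i + 1) b) (col F i b) = col F i b from col_hom F i b])
      (col_hom F' i)
      (by
        rw [← dLin_eq, range_dLin]
        ext w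
        constructor
        · rintro ⟨v, rfl⟩
          rw [hflc, hker, ← range_dLin]
          exact ⟨v, rfl⟩
        · intro hw
          obtain ⟨x, rfl⟩ := A.surjective w
          rw [hker, ← range_dLin] at hw
          obtain ⟨v, rfl⟩ := hw
          exact ⟨v, hflc v⟩)
      (fun v hv => cc_ker_dLin hF (by rw [hflc] at hv; exact (LinearEquiv.map_eq_zero_iff A).1 hv))
      (fun v hv => cc_ker_dLin hF' (by rw [dLin_eq]; exact hv))
    refine ⟨A', hpr', fun v => ?_, hc⟩
    change F'.dLin i (A' v) = 0 ↔ F.dLin i v = 0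
    rw [dLin_eq F', hA', hflc, LinearEquiv.map_eq_zero_iff]

end

end Groth.Agent.GrSyz
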