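import Groth.Agent.GrSyz.PD
import Mathlib.RingTheory.Regular.ProjectiveDimension
import Mathlib.RingTheory.MvPolynomial.Ideal
import Mathlib.RingTheory.Ideal.AssociatedPrime.Finiteness

/-! Depth and the length of a minimal resolution. -/

namespace Groth.Agent.GrSyz

open Finset CategoryTheory Abelian RingTheory.Sequence
open scoped Pointwise

universe u

noncomputable section

section general

variable {R : Type u} [CommRing R] (I : Ideal R)

/-- the residue module -/
abbrev resMod : ModuleCat.{u} R := ModuleCat.of R (R ⧸ I)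

lemma smul_id_resMod {x : R} (hx : x ∈ I) : x • 𝟙 (resMod I) = 0 := by
  refine ModuleCat.hom_ext (LinearMap.ext fun z => ?_)
  obtain ⟨w, rfl⟩ := Ideal.Quotient.mk_surjective z
  change x • (Ideal.Quotient.mk I w) = 0
  rw [Algebra.smul_def, Ideal.Quotient.algebraMap_eq, ← map_mul, Ideal.Quotient.eq_zero_iff_mem]
  exact I.mul_mem_right _ hx

lemma mk₀_smul_comp_eq_zero {X : ModuleCat.{u} R} {x : R} (hx : x ∈ I) {j : ℕ} (α : Ext X (resMod I) j) :
    (Ext.mk₀ (x • 𝟙 X)).comp α (zero_add j) = 0 := by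
  have h1 : (Ext.mk₀ (x • 𝟙 X)).comp α (zero_add j) = x • α := by
    rw [Ext.mk₀_smul, Ext.smul_comp, Ext.mk₀_id_comp]
  have h2 : α.comp (Ext.mk₀ (x • 𝟙 (resMod I))) (add_zero j) = x • α := by
    rw [Ext.mk₀_smul, Ext.comp_smul, Ext.comp_mk₀_id]
  rw [h1, ← h2, smul_id_resMod I hx, Ext.mk₀_zero, Ext.comp_zero]

lemma nontrivial_quotSMulTop {M : ModuleCat.{u} R} {x : R} (hreg : IsSMulRegular M x) (hx : x ∈ I) {j : ℕ}
    (h : Nontrivial (Ext M (resMod I) j)) :
    Nontrivial (Ext (ModuleCat.of R (QuotSMulTop x M)) (resMod I) (1 + j)) := by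
  obtain ⟨α, hα⟩ := exists_ne (0 : Ext M (resMod I) j)
  have hS : (M.smulShortComplex x).ShortExact := hreg.smulShortComplex_shortExact
  refine ⟨⟨hS.extClass.comp α rfl, 0, fun h0 => hα ?_⟩⟩
  obtain ⟨β, hβ⟩ := Ext.contravariant_sequence_exact₁ hS (resMod I) (x₁ := α) rfl h0
  rw [← hβ]
  exact mk₀_smul_comp_eq_zero I hx β

lemma nontrivial_quot_list : ∀ (rs : List R) (M : ModuleCat.{u} R), IsWeaklyRegular M rs → (∀ r ∈ rs, r ∈ I) →
    ∀ j, Nontrivial (Ext M (resMod I) j) →
      Nontrivial (Ext (ModuleCat.of R (M ⧸ (Ideal.ofList rs • ⊤ : Submodule R M))) (resMod I) (rs.length + j))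
  | [], M, _, _, j, h => by
    have e : ModuleCat.of R (M ⧸ (Ideal.ofList ([] : List R) • ⊤ : Submodule R M)) ≅ M :=
      (Submodule.quotEquivOfEqBot _ (by rw [Ideal.ofList_nil, Submodule.bot_smul])).toModuleIso
    obtain ⟨α, hα⟩ := exists_ne (0 : Ext M (resMod I) j)
    simp only [List.length_nil, zero_add]
    refine ⟨⟨(Ext.mk₀ e.hom).comp α (zero_add j), 0, fun h0 => hα ?_⟩⟩
    have := congrArg (fun β => (Ext.mk₀ e.inv).comp β (zero_add j)) h0
    simpa [Ext.mk₀_comp_mk₀_assoc, Ext.mk₀_id_comp] using this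
  | x :: rs, M, hreg, hmem, j, h => by
    rw [isWeaklyRegular_cons_iff] at hreg
    simp only [List.mem_cons, forall_eq_or_imp] at hmem
    have h1 := nontrivial_quotSMulTop I hreg.1 hmem.1 h
    have h2 := nontrivial_quot_list rs (ModuleCat.of R (QuotSMulTop x M)) hreg.2 hmem.2 _ h1
    let e := (Submodule.quotOfListConsSMulTopEquivQuotSMulTopInner M x rs).toModuleIso
    obtain ⟨α, hα⟩ := exists_ne (0 : Ext (ModuleCat.of R (QuotSMulTop x M ⧸ (Ideal.ofList rs • ⊤ : Submodule R (QuotSMulTop x M)))) (resMod I) (rs.length + (1 + j)))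
    have hl : (x :: rs).length + j = rs.length + (1 + j) := by simp [List.length_cons]; omega
    rw [hl]
    refine ⟨⟨(Ext.mk₀ e.hom).comp α (zero_add _), 0, fun h0 => hα ?_⟩⟩
    have := congrArg (fun β => (Ext.mk₀ e.inv).comp β (zero_add _)) h0
    simpa [Ext.mk₀_comp_mk₀_assoc, Ext.mk₀_id_comp] using this

lemma pdLT_quot_list : ∀ (rs : List R) (M : ModuleCat.{u} R), IsWeaklyRegular M rs →
    ∀ j, HasProjectiveDimensionLT M (j + 1) →
      HasProjectiveDimensionLT (ModuleCat.of R (M ⧸ (Ideal.ofList rs • ⊤ : Submodule R M))) (rs.length + j + 1)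
  | [], M, _, j, h => by
    have e : ModuleCat.of R (M ⧸ (Ideal.ofList ([] : List R) • ⊤ : Submodule R M)) ≅ M :=
      (Submodule.quotEquivOfEqBot _ (by rw [Ideal.ofList_nil, Submodule.bot_smul])).toModuleIso
    simp only [List.length_nil, zero_add]
    exact hasProjectiveDimensionLT_of_iso e.symm _
  | x :: rs, M, hreg, j, h => by
    rw [isWeaklyRegular_cons_iff] at hreg
    have hS : (M.smulShortComplex x).ShortExact := hreg.1.smulShortComplex_shortExact
    have h1 : HasProjectiveDimensionLT (ModuleCat.of R (QuotSMulTop x M)) (j + 1 + 1) :=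
      hS.hasProjectiveDimensionLT_X₃ (j + 1) h (hasProjectiveDimensionLT_of_ge M (j + 1) (j + 1 + 1) (Nat.le_succ _))
    have h2 := pdLT_quot_list rs (ModuleCat.of R (QuotSMulTop x M)) hreg.2 (j + 1) h1
    have hl : (x :: rs).length + j + 1 = rs.length + (j + 1) + 1 := by simp [List.length_cons]; omega
    rw [hl]
    exact hasProjectiveDimensionLT_of_iso (Submodule.quotOfListConsSMulTopEquivQuotSMulTopInner M x rs).toModuleIso.symm _

lemma exists_regular [IsNoetherianRing R] [hI : I.IsMaximal] (N : Type u) [AddCommGroup N] [Module R N]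
    [Module.Finite R N] : (∃ x ∈ I, IsSMulRegular N x) ∨ ∃ f : (R ⧸ I) →ₗ[R] N, Function.Injective f := by
  classical
  by_cases hex : ∃ x ∈ I, IsSMulRegular N x
  · exact Or.inl hex
  refine Or.inr ?_
  have hsub : (I : Set R) ⊆ ⋃ p ∈ associatedPrimes R N, (p : Set R) := fun x hx => by
    rw [biUnion_associatedPrimes_eq_zero_divisors R N]
    by_contra hno
    refine hex ⟨x, hx, fun a b hab => ?_⟩
    by_contra hne
    exact hno ⟨a - b, sub_ne_zero.2 hne, by rw [smul_sub]; exact sub_eq_zero.2 hab⟩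
  have hfin := associatedPrimes.finite R N
  rw [← hfin.coe_toFinset] at hsub
  obtain ⟨p, hp, hle⟩ := (Ideal.subset_union_prime (f := fun p : Ideal R => p) ⊥ ⊥
    (fun i hi _ _ => (hfin.mem_toFinset.1 hi).isPrime)).1 hsub
  have hp' := hfin.mem_toFinset.1 hp
  have heq : I = p := hI.eq_of_le hp'.isPrime.ne_top hle
  obtain ⟨-, z, hz⟩ := isAssociatedPrime_iff.1 hp'
  refine ⟨Submodule.liftQ I (LinearMap.toSpanSingleton R N z) ?_, ?_⟩
  · intro r hr
    rw [heq, hz, Submodule.mem_colon_singleton, Submodule.mem_bot] at hr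
    exact hr
  · rw [← LinearMap.ker_eq_bot]
    refine Submodule.ker_liftQ_eq_bot _ _ _ fun r hr => ?_
    rw [heq, hz, Submodule.mem_colon_singleton, Submodule.mem_bot]
    exact hr

end general

open MvPolynomial

variable {k : Type u} [Field k] {n : ℕ}

local notation "S" => MvPolynomial (Fin n) k
local notation "𝔪" => HomogeneousIdeal.toIdeal (_root_.GrSyz.irrel (_root_.GrSyz.stdGr k (Fin n)))

instance irrel_isMaximal : (𝔪 : Ideal S).IsMaximal := by
  have : (𝔪 : Ideal S) = RingHom.ker (constantCoeff (R := k) (σ := Fin n)) := Ideal.ext mem_irrel_iff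
  rw [this]
  exact RingHom.ker_isMaximal_of_surjective _ fun c => ⟨C c, constantCoeff_C _ c⟩

lemma isWeaklyRegular_X : ∀ (m : ℕ) (hm : m ≤ n),
    IsWeaklyRegular S ((List.ofFn fun i : Fin m => (X (Fin.castLE hm i) : S))) := by
  intro m hm
  rw [isWeaklyRegular_iff]
  intro j hj
  have hj' : j < m := by simpa using hj
  rw [List.getElem_ofFn, isSMulRegular_quotient_iff_mem_of_smul_mem, smul_eq_mul, Ideal.mul_top]
  intro f hf
  rw [smul_eq_mul] at hf
  have hset : Ideal.ofList ((List.ofFn fun i : Fin m => (X (Fin.castLE hm i) : S)).take j)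
      = Ideal.span (X '' {i : Fin n | (i : ℕ) < j}) := by
    rw [Ideal.ofList]
    congr 1
    ext x
    simp only [Set.mem_ofPred_eq, Set.mem_image, List.mem_take_iff_getElem, List.getElem_ofFn, List.length_ofFn]
    constructor
    · rintro ⟨i, hi, rfl⟩
      exact ⟨_, by simp; omega, rfl⟩
    · rintro ⟨i, hi, rfl⟩
      exact ⟨i.1, by omega, by congr 1⟩
  rw [hset] at hf ⊢
  rw [mem_ideal_span_X_image] at hf ⊢
  intro d hd
  classical
  set a : Fin n := Fin.castLE hm ⟨j, hj'⟩ with ha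
  obtain ⟨i, hi, hne⟩ := hf (Finsupp.single a 1 + d) (by
    rw [mem_support_iff, coeff_X_mul, ← mem_support_iff]
    exact hd)
  refine ⟨i, hi, ?_⟩
  have : (i : ℕ) ≠ j := ne_of_lt hi
  rw [Finsupp.add_apply, Finsupp.single_eq_of_ne (by intro h; subst h; exact this (by simp [ha])), zero_add] at hne
  exact hne

lemma not_pdLT_res : ¬ HasProjectiveDimensionLT (resMod (𝔪 : Ideal S)) n := by
  intro h
  have hnon : Nontrivial (Ext (ModuleCat.of S S) (resMod (𝔪 : Ideal S)) 0) := by
    have : Nontrivial (ModuleCat.of S S ⟶ resMod (𝔪 : Ideal S)) := by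
      refine ⟨⟨ModuleCat.ofHom (Submodule.mkQ 𝔪), 0, fun h0 => ?_⟩⟩
      have := LinearMap.congr_fun (congrArg ModuleCat.Hom.hom h0) (1 : S)
      exact (Ideal.ne_top_iff_one _).1 irrel_isMaximal.ne_top (Ideal.Quotient.eq_zero_iff_mem.1 this)
    exact Ext.homEquiv₀.nontrivial
  have h2 := nontrivial_quot_list (𝔪 : Ideal S) _ (ModuleCat.of S S) (isWeaklyRegular_X (k := k) n le_rfl)
    (fun r hr => by
      obtain ⟨i, rfl⟩ := List.mem_ofFn.1 hr
      exact (mem_irrel_iff _).2 (by simp)) 0 hnon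
  have e : Ideal.ofList (List.ofFn fun i : Fin n => (X (Fin.castLE le_rfl i) : S)) • (⊤ : Submodule S S)
      = (𝔪 : Ideal S) := by
    rw [smul_eq_mul, Ideal.mul_top]
    refine le_antisymm (Ideal.span_le.2 fun r hr => ?_) fun a ha => ?_
    · obtain ⟨i, rfl⟩ := List.mem_ofFn.1 hr
      exact (mem_irrel_iff _).2 (by simp)
    · rw [mem_irrel_iff, constantCoeff_eq] at ha
      have : Ideal.ofList (List.ofFn fun i : Fin n => (X (Fin.castLE le_rfl i) : S)) = Ideal.span (X '' Set.univ) := by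
        rw [Ideal.ofList]
        congr 1
        ext x
        simp [List.mem_ofFn]
      rw [this, mem_ideal_span_X_image]
      intro d hd
      by_contra hno
      have : d = 0 := Finsupp.ext fun i => by
        by_contra hi
        exact hno ⟨i, trivial, hi⟩
      subst this
      exact (mem_support_iff.1 hd) ha
  haveI := hasProjectiveDimensionLT_of_iso (Submodule.quotEquivOfEq _ _ e).toModuleIso.symm n
  have hs : Subsingleton (Ext (ModuleCat.of S (S ⧸ (Ideal.ofList
      (List.ofFn fun i : Fin n => (X (Fin.castLE le_rfl i) : S)) • (⊤ : Submodule S S)))) (resMod (𝔪 : Ideal S))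
      ((List.ofFn fun i : Fin n => (X (Fin.castLE le_rfl i) : S)).length + 0)) :=
    HasProjectiveDimensionLT.subsingleton _ n _ (by simp) _
  exact not_subsingleton _ hs

variable {M : Type u} [AddCommGroup M] [Module k M] [Module (MvPolynomial (Fin n) k) M]
  [IsScalarTower k (MvPolynomial (Fin n) k) M] {ℳ : ℤ → Submodule k M} [DirectSum.Decomposition ℳ]
  [SetLike.GradedSMul (_root_.GrSyz.stdGr k (Fin n)) ℳ]
  {F : _root_.GrSyz.FreeRes (_root_.GrSyz.stdGr k (Fin n)) ℳ}

lemma cc_kerAt (hF : F.IsMinimal 𝔪) : ∀ i, ∀ v ∈ kerAt F i, ∀ a, constantCoeff (v a) = 0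
  | 0, _, hv, a => cc_ker_aug hF hv a
  | _ + 1, _, hv, a => cc_ker_dLin hF hv a

lemma nontrivial_img (hF : F.IsMinimal 𝔪) {l : ℕ} (hl : F.rk l ≠ 0) :
    ∀ j i, i + j = l → Nontrivial (Ext (img F i) (resMod (𝔪 : Ideal S)) j) := by
  intro j
  induction j with
  | zero =>
    intro i hi
    rw [add_zero] at hi
    subst hi
    let a : Fin (F.rk i) := ⟨0, Nat.pos_of_ne_zero hl⟩
    let ψ : (Fin (F.rk i) → S) →ₗ[S] (S ⧸ (𝔪 : Ideal S)) := (Submodule.mkQ 𝔪).comp (LinearMap.proj a)
    have hker : LinearMap.ker (cover F i) ≤ LinearMap.ker ψ := fun v hv => by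
      rw [ker_cover] at hv
      exact Ideal.Quotient.eq_zero_iff_mem.2 ((mem_irrel_iff _).2 (cc_kerAt hF i v hv a))
    let φ : img F i →ₗ[S] (S ⧸ (𝔪 : Ideal S)) :=
      ((LinearMap.ker (cover F i)).liftQ ψ hker).comp
        (LinearMap.quotKerEquivOfSurjective (cover F i) (cover_surjective F i)).symm.toLinearMap
    have : Nontrivial (img F i ⟶ resMod (𝔪 : Ideal S)) := by
      refine ⟨⟨ModuleCat.ofHom φ, 0, fun h0 => ?_⟩⟩
      have h1 := LinearMap.congr_fun (congrArg ModuleCat.Hom.hom h0) (cover F i (Pi.single a 1))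
      change (LinearMap.ker (cover F i)).liftQ ψ hker ((LinearMap.quotKerEquivOfSurjective (cover F i) (cover_surjective F i)).symm.toLinearMap (cover F i (Pi.single a 1))) = 0 at h1
      rw [show (LinearMap.quotKerEquivOfSurjective (cover F i) (cover_surjective F i)).symm.toLinearMap
        (cover F i (Pi.single a 1)) = Submodule.Quotient.mk (Pi.single a 1) from
        (LinearEquiv.symm_apply_eq _).2 rfl, Submodule.liftQ_apply] at h1
      have h2 : Ideal.Quotient.mk (𝔪 : Ideal S) ((Pi.single a 1 : Fin (F.rk i) → S) a) = 0 := h1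
      rw [Pi.single_eq_same, Ideal.Quotient.eq_zero_iff_mem, ← Ideal.eq_top_iff_one] at h2
      exact irrel_isMaximal.ne_top h2
    exact Ext.homEquiv₀.nontrivial
  | succ j ih =>
    intro i hi
    have h := ih (i + 1) (by omega)
    have hT := LinearMap.shortExact_shortComplexKer (cover_surjective F i)
    let e : ModuleCat.of S (LinearMap.ker (cover F i)) ≅ img F (i + 1) :=
      (LinearEquiv.ofEq _ _ (ker_cover F i)).toModuleIso
    obtain ⟨α₀, hα₀⟩ := exists_ne (0 : Ext (img F (i + 1)) (resMod (𝔪 : Ideal S)) j)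
    set α := (Ext.mk₀ e.hom).comp α₀ (zero_add j) with hα
    have hαne : α ≠ 0 := fun h0 => hα₀ (by
      have := congrArg (fun β => (Ext.mk₀ e.inv).comp β (zero_add j)) h0
      simpa [hα, Ext.mk₀_comp_mk₀_assoc, Ext.mk₀_id_comp] using this)
    refine ⟨⟨hT.extClass.comp α (show 1 + j = j + 1 by omega), 0, fun h0 => hαne ?_⟩⟩
    obtain ⟨β, hβ⟩ := Ext.contravariant_sequence_exact₁ hT (resMod (𝔪 : Ideal S)) (x₁ := α) (show 1 + j = j + 1 by omega) h0
    rw [← hβ]
    cases j with
    | zero =>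
      obtain ⟨b, rfl⟩ := (Ext.mk₀_bijective _ _).2 β
      have hz : (cover F i).shortComplexKer.f ≫ b = 0 := by
        ext v
        change b.hom v.1 = 0
        rw [pi_eq_sum_univ' v.1, map_sum]
        refine Finset.sum_eq_zero fun a _ => ?_
        rw [map_smul]
        have hva : v.1 a ∈ (𝔪 : Ideal S) :=
          (mem_irrel_iff _).2 (cc_kerAt hF i v.1 (by rw [← ker_cover]; exact v.2) a)
        have h1 := LinearMap.congr_fun (congrArg ModuleCat.Hom.hom (smul_id_resMod (𝔪 : Ideal S) hva))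
          (b.hom (Pi.single a 1))
        simpa using h1
      rw [Ext.mk₀_comp_mk₀, hz, Ext.mk₀_zero]
    | succ j' =>
      haveI : Projective (ModuleCat.of S (Fin (F.rk i) → S)) := (IsProjective.iff_projective _).1 inferInstance
      have : β = 0 := Subsingleton.elim (h := HasProjectiveDimensionLT.subsingleton
        (ModuleCat.of S (Fin (F.rk i) → S)) 1 (j' + 1) (by omega) _) β 0
      rw [this, Ext.comp_zero]

theorem length_add_depth [Module.Finite (MvPolynomial (Fin n) k) M] (hF : F.IsMinimal 𝔪) {l : ℕ}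
    (hl : F.HasLengthLE l) (hl' : F.rk l ≠ 0) :
    (𝔪 : Ideal S) • (⊤ : Submodule S M) ≠ ⊤ ∧
      (∀ rs : List S, IsWeaklyRegular M rs → (∀ r ∈ rs, r ∈ (𝔪 : Ideal S)) → l + rs.length ≤ n) ∧
      ∃ rs : List S, IsWeaklyRegular M rs ∧ (∀ r ∈ rs, r ∈ (𝔪 : Ideal S)) ∧ l + rs.length = n := by
  classical
  have hExt : Nontrivial (Ext (ModuleCat.of S M) (resMod (𝔪 : Ideal S)) l) := nontrivial_img hF hl' l 0 (by simp)
  have hub : ∀ rs : List S, IsWeaklyRegular M rs → (∀ r ∈ rs, r ∈ (𝔪 : Ideal S)) → l + rs.length ≤ n := by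
    intro rs hrs hmem
    have h := nontrivial_quot_list (𝔪 : Ideal S) rs (ModuleCat.of S M) hrs hmem l hExt
    by_contra hcon
    haveI := pdLE_mvPolynomial (k := k) (n := n) (M ⧸ (Ideal.ofList rs • ⊤ : Submodule S M))
    exact not_subsingleton _ (HasProjectiveDimensionLT.subsingleton
      (ModuleCat.of S (M ⧸ (Ideal.ofList rs • ⊤ : Submodule S M))) (n + 1) (rs.length + l) (by omega) (resMod (𝔪 : Ideal S)))
  refine ⟨fun htop => ?_, hub, ?_⟩
  · obtain ⟨x, hx1, hx⟩ := Submodule.exists_sub_one_mem_and_smul_eq_zero_of_fg_of_le_smul (𝔪 : Ideal S) ⊤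
      (Module.Finite.fg_top (R := S) (M := M)) htop.ge
    have hxne : x ∉ (𝔪 : Ideal S) := fun h => irrel_isMaximal.ne_top ((Ideal.eq_top_iff_one _).2 (by
      have := Ideal.sub_mem _ h hx1
      simpa using this))
    obtain ⟨α, hα⟩ := exists_ne (0 : Ext (ModuleCat.of S M) (resMod (𝔪 : Ideal S)) l)
    have h0 : x • 𝟙 (ModuleCat.of S M) = 0 := by
      ext z
      exact hx z trivial
    have h1 : x • α = 0 := by
      rw [← Ext.mk₀_id_comp α, ← Ext.smul_comp, ← Ext.mk₀_smul, h0, Ext.mk₀_zero, Ext.zero_comp]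
    have h2 : (x - 1) • α = 0 := by
      have := mk₀_smul_comp_eq_zero (𝔪 : Ideal S) hx1 α
      rwa [Ext.mk₀_smul, Ext.smul_comp, Ext.mk₀_id_comp] at this
    rw [sub_smul, h1, one_smul, zero_sub, neg_eq_zero] at h2
    exact hα h2
  · let P : ℕ → Prop := fun j => ∃ rs : List S, rs.length = j ∧ IsWeaklyRegular M rs ∧ ∀ r ∈ rs, r ∈ (𝔪 : Ideal S)
    have hP0 : P 0 := ⟨[], rfl, IsWeaklyRegular.nil S M, by simp⟩
    obtain ⟨rs, hlen, hrs, hmem⟩ : P (Nat.findGreatest P n) := Nat.findGreatest_spec (Nat.zero_le n) hP0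
    refine ⟨rs, hrs, hmem, le_antisymm (hub rs hrs hmem) ?_⟩
    rcases exists_regular (𝔪 : Ideal S) (M ⧸ (Ideal.ofList rs • ⊤ : Submodule S M)) with ⟨x, hx, hxreg⟩ | ⟨f, hf⟩
    · exfalso
      have hreg' : IsWeaklyRegular M (rs ++ [x]) :=
        (isWeaklyRegular_append_iff M rs [x]).2 ⟨hrs, (isWeaklyRegular_singleton_iff _ x).2 hxreg⟩
      have hmem' : ∀ r ∈ rs ++ [x], r ∈ (𝔪 : Ideal S) := fun r hr => by
        rcases List.mem_append.1 hr with h | h
        · exact hmem r h
        · rw [List.mem_singleton.1 h]; exact hx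
      have hb := hub _ hreg' hmem'
      have := Nat.le_findGreatest (P := P) (m := (rs ++ [x]).length) (n := n) (by omega) ⟨_, rfl, hreg', hmem'⟩
      simp at this
      omega
    · by_contra hcon
      rw [not_le] at hcon
      have hpd : HasProjectiveDimensionLT (ModuleCat.of S M) (l + 1) := (hasLengthLE_iff hF l).1 hl
      have hN := pdLT_quot_list rs (ModuleCat.of S M) hrs l hpd
      haveI := hN
      have hN' : HasProjectiveDimensionLT (ModuleCat.of S (M ⧸ (Ideal.ofList rs • ⊤ : Submodule S M))) n :=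
        hasProjectiveDimensionLT_of_ge _ (rs.length + l + 1) n (by omega)
      have hQ : HasProjectiveDimensionLT (ModuleCat.of S ((M ⧸ (Ideal.ofList rs • ⊤ : Submodule S M)) ⧸ LinearMap.range f)) (n + 1) :=
        pdLE_mvPolynomial _
      have hS := LinearMap.shortExact_shortComplexKer (f := (LinearMap.range f).mkQ) (Submodule.mkQ_surjective _)
      refine not_pdLT_res (k := k) (n := n) ?_
      haveI := hS.hasProjectiveDimensionLT_X₁ n hN' hQ
      exact hasProjectiveDimensionLT_of_iso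
        ((LinearEquiv.ofEq _ _ (Submodule.ker_mkQ _)).trans (LinearEquiv.ofInjective f hf).symm).toModuleIso n

end

end Groth.Agent.GrSyz
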