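import Groth.Agent.GrSyz.Res
import Groth.Agent.LocalAlg.Homogeneous
import Mathlib.LinearAlgebra.Dimension.Constructions
import Mathlib.LinearAlgebra.FiniteDimensional.Lemmas
import Mathlib.RingTheory.Polynomial.Pochhammer

/-! The Hilbert function from a graded free resolution. -/

namespace Groth.Agent.GrSyz

open Finset MvPolynomial

universe u

noncomputable section

variable {k : Type u} [Field k] {n : ℕ}

local notation "S" => MvPolynomial (Fin n) k

lemma mem_stdGr_natCast (e : ℕ) (a : S) :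
    a ∈ _root_.GrSyz.stdGr k (Fin n) (e : ℤ) ↔ a.IsHomogeneous e := by
  refine forall_congr' fun d => imp_congr_right fun _ => ?_
  rw [weight_one]
  rw [Finsupp.weight_apply, Finsupp.sum_fintype _ _ (fun i => by simp)]
  simp only [Pi.one_apply, smul_eq_mul, mul_one]
  exact_mod_cast Iff.rfl

lemma stdGr_natCast (e : ℕ) : _root_.GrSyz.stdGr k (Fin n) (e : ℤ) = homogeneousSubmodule (Fin n) k e :=
  Submodule.ext fun a => mem_stdGr_natCast e a

instance finite_stdGr (g : ℤ) : Module.Finite k (_root_.GrSyz.stdGr k (Fin n) g) := by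
  rcases lt_or_ge g 0 with h | h
  · have : _root_.GrSyz.stdGr k (Fin n) g = ⊥ :=
      (Submodule.eq_bot_iff _).2 fun a ha => stdGr_eq_zero_of_neg h ha
    rw [this]; infer_instance
  · obtain ⟨e, rfl⟩ := Int.eq_ofNat_of_zero_le h
    rw [stdGr_natCast]; infer_instance

/-- `dim S_g` -/
def dimS (r : ℕ) (g : ℤ) : ℤ := if 0 ≤ g then ((Nat.choose (r + g.toNat) r : ℕ) : ℤ) else 0

lemma finrank_stdGr (r : ℕ) (g : ℤ) :
    (Module.finrank k (_root_.GrSyz.stdGr k (Fin (r + 1)) g) : ℤ) = dimS r g := by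
  rw [dimS]
  split_ifs with h
  · obtain ⟨e, rfl⟩ := Int.eq_ofNat_of_zero_le h
    rw [stdGr_natCast, LocalAlg.Homogeneous.finrank_homogeneousSubmodule, Int.toNat_natCast,
      show r + 1 + e - 1 = r + e by omega, ← Nat.choose_symm_add]
  · have : _root_.GrSyz.stdGr k (Fin (r + 1)) g = ⊥ :=
      (Submodule.eq_bot_iff _).2 fun a ha => stdGr_eq_zero_of_neg (not_le.1 h) ha
    rw [this, finrank_bot]; rfl

/-- the degree `g` piece of a free module -/
def piece {p : ℕ} (deg : Fin p → ℤ) (g : ℤ) : Submodule k (Fin p → S) :=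
  Submodule.pi Set.univ fun b => _root_.GrSyz.stdGr k (Fin n) (g - deg b)

lemma mem_piece {p : ℕ} (deg : Fin p → ℤ) (g : ℤ) (v : Fin p → S) :
    v ∈ piece deg g ↔ (free deg).Hom g v := by
  simp [piece, free_hom_iff, Submodule.mem_pi]

/-- coordinates of a piece -/
def pieceEquiv {p : ℕ} (deg : Fin p → ℤ) (g : ℤ) :
    piece (k := k) (n := n) deg g ≃ₗ[k] ((b : Fin p) → _root_.GrSyz.stdGr k (Fin n) (g - deg b)) where
  toFun v b := ⟨v.1 b, v.2 b trivial⟩
  invFun w := ⟨fun b => (w b).1, fun b _ => (w b).2⟩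
  map_add' _ _ := rfl
  map_smul' _ _ := rfl
  left_inv _ := rfl
  right_inv _ := rfl

instance finite_piece {p : ℕ} (deg : Fin p → ℤ) (g : ℤ) : Module.Finite k (piece (k := k) (n := n) deg g) :=
  Module.Finite.equiv (pieceEquiv deg g).symm

lemma finrank_piece {p : ℕ} (r : ℕ) (deg : Fin p → ℤ) (g : ℤ) :
    (Module.finrank k (piece (k := k) (n := r + 1) deg g) : ℤ) = ∑ b, dimS r (g - deg b) := by
  rw [(pieceEquiv deg g).finrank_eq, Module.finrank_pi_fintype]
  push_cast
  exact sum_congr rfl fun b _ => finrank_stdGr r _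

variable {M : Type u} [AddCommGroup M] [Module k M] [Module (MvPolynomial (Fin n) k) M]
  [IsScalarTower k (MvPolynomial (Fin n) k) M] {ℳ : ℤ → Submodule k M} [DirectSum.Decomposition ℳ]
  [SetLike.GradedSMul (_root_.GrSyz.stdGr k (Fin n)) ℳ]
  (F : _root_.GrSyz.FreeRes (_root_.GrSyz.stdGr k (Fin n)) ℳ) (g : ℤ)

/-- the differential in degree `g` -/
def dPiece (i : ℕ) : piece (k := k) (n := n) (F.deg (i + 1)) g →ₗ[k] piece (k := k) (n := n) (F.deg i) g :=
  ((F.dLin i).restrictScalars k).restrict fun v hv => by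
    rw [mem_piece] at hv ⊢
    change (free (F.deg i)).pr g (F.dLin i v) = F.dLin i v
    rw [dLin_pr, hv]

/-- the augmentation in degree `g` -/
def augPiece : piece (k := k) (n := n) (F.deg 0) g →ₗ[k] ℳ g :=
  ((F.augLin).restrictScalars k).restrict fun v hv => by
    rw [mem_piece] at hv
    rw [← ofDecomp_hom_iff (n := n)]
    change (ofDecomp (n := n) ℳ).pr g (F.augLin v) = F.augLin v
    rw [augLin_pr, hv]

lemma augPiece_surjective : Function.Surjective (augPiece F g) := fun x => by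
  obtain ⟨v, hv⟩ := F.aug_surjective x.1
  refine ⟨⟨(free (F.deg 0)).pr g v, (mem_piece _ _ _).2 (Gr.hom_pr _ _ _)⟩, Subtype.ext ?_⟩
  change F.augLin ((free (F.deg 0)).pr g v) = x.1
  rw [← augLin_pr]
  change (ofDecomp (n := n) ℳ).pr g (Fintype.linearCombination S F.aug v) = x.1
  rw [hv]
  exact (ofDecomp_hom_iff ℳ g x.1).2 x.2

lemma ker_augPiece : LinearMap.ker (augPiece F g) = LinearMap.range (dPiece F g 0) := by
  ext v
  rw [LinearMap.mem_ker, LinearMap.mem_range]
  constructor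
  · intro h
    obtain ⟨w, hw⟩ : v.1 ∈ LinearMap.range (F.dLin 0) := F.exact_zero ▸ LinearMap.mem_ker.2 (congrArg Subtype.val h)
    refine ⟨⟨(free (F.deg 1)).pr g w, (mem_piece _ _ _).2 (Gr.hom_pr _ _ _)⟩, Subtype.ext ?_⟩
    change F.dLin 0 ((free (F.deg 1)).pr g w) = v.1
    rw [← dLin_pr, hw]
    exact (mem_piece _ _ _).1 v.2
  · rintro ⟨w, rfl⟩
    refine Subtype.ext ?_
    have : F.dLin 0 w.1 ∈ LinearMap.ker (Fintype.linearCombination S F.aug) := F.exact_zero.symm ▸ ⟨w.1, rfl⟩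
    exact this

lemma ker_dPiece (i : ℕ) : LinearMap.ker (dPiece F g i) = LinearMap.range (dPiece F g (i + 1)) := by
  ext v
  rw [LinearMap.mem_ker, LinearMap.mem_range]
  constructor
  · intro h
    obtain ⟨w, hw⟩ : v.1 ∈ LinearMap.range (F.dLin (i + 1)) := F.exact_succ i ▸ LinearMap.mem_ker.2 (congrArg Subtype.val h)
    refine ⟨⟨(free (F.deg (i + 2))).pr g w, (mem_piece _ _ _).2 (Gr.hom_pr _ _ _)⟩, Subtype.ext ?_⟩
    change F.dLin (i + 1) ((free (F.deg (i + 2))).pr g w) = v.1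
    rw [← dLin_pr, hw]
    exact (mem_piece _ _ _).1 v.2
  · rintro ⟨w, rfl⟩
    exact Subtype.ext (dLin_comp F i w.1)

lemma alt_sum (m : ℕ) :
    (∑ i ∈ range (m + 1), (-1 : ℤ) ^ i * (Module.finrank k (piece (k := k) (n := n) (F.deg i) g) : ℤ))
      = Module.finrank k (ℳ g) + (-1) ^ m * (Module.finrank k (LinearMap.range (dPiece F g m)) : ℤ) := by
  induction m with
  | zero =>
    have h := LinearMap.finrank_range_add_finrank_ker (augPiece F g)
    rw [LinearMap.range_eq_top.2 (augPiece_surjective F g), finrank_top, ker_augPiece] at h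
    rw [Finset.sum_range_succ, Finset.sum_range_zero, zero_add]
    simp only [pow_zero, one_mul]
    exact_mod_cast h.symm
  | succ m ih =>
    have h := LinearMap.finrank_range_add_finrank_ker (dPiece F g m)
    rw [ker_dPiece] at h
    rw [sum_range_succ, ih, ← h, pow_succ]
    push_cast
    ring

theorem finrank_eq {r : ℕ} {N : Type u} [AddCommGroup N] [Module k N] [Module (MvPolynomial (Fin (r + 1)) k) N]
    [IsScalarTower k (MvPolynomial (Fin (r + 1)) k) N] {𝒩 : ℤ → Submodule k N} [DirectSum.Decomposition 𝒩]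
    [SetLike.GradedSMul (_root_.GrSyz.stdGr k (Fin (r + 1))) 𝒩]
    (F : _root_.GrSyz.FreeRes (_root_.GrSyz.stdGr k (Fin (r + 1))) 𝒩) {m : ℕ} (hF : F.HasLengthLE m) (d : ℤ) :
    (Module.finrank k (𝒩 d) : ℤ) = ∑ i ∈ range (m + 1), (-1 : ℤ) ^ i * ∑ b, dimS r (d - F.deg i b) := by
  have h := alt_sum F d m
  simp only [finrank_piece] at h
  rw [h]
  have : IsEmpty (Fin (F.rk (m + 1))) := by rw [hF (m + 1) (Nat.lt_succ_self m)]; infer_instance
  have h0 : dPiece F d m = 0 := LinearMap.ext fun v => by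
    rw [show v = 0 from Subtype.ext (Subsingleton.elim _ _), map_zero, map_zero]
  rw [h0, LinearMap.range_zero, finrank_bot]
  simp

lemma dimS_eq (r : ℕ) (a d : ℤ) :
    dimS r (d - a) = if a ≤ d then ((Nat.choose (r + (d - a).toNat) r : ℕ) : ℤ) else 0 := by
  rw [dimS]
  congr 1
  exact propext sub_nonneg

/-- the polynomial agreeing with `dimS r` for `t ≥ -r` -/
def dimPoly (r : ℕ) : Polynomial ℚ :=
  Polynomial.C ((r.factorial : ℚ)⁻¹) * ((descPochhammer ℚ r).comp (Polynomial.X + Polynomial.C (r : ℚ)))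

lemma dimPoly_eval (r : ℕ) {t : ℤ} (ht : -(r : ℤ) ≤ t) : (dimPoly r).eval (t : ℚ) = (dimS r t : ℚ) := by
  obtain ⟨N, hN⟩ := Int.eq_ofNat_of_zero_le (show (0 : ℤ) ≤ t + r by omega)
  have hq : (t : ℚ) + r = (N : ℚ) := by exact_mod_cast hN
  rw [dimPoly, Polynomial.eval_mul, Polynomial.eval_C, Polynomial.eval_comp, Polynomial.eval_add, Polynomial.eval_X,
    Polynomial.eval_C, hq, descPochhammer_eval_eq_descFactorial, Nat.descFactorial_eq_factorial_mul_choose]
  push_cast
  rw [← mul_assoc, inv_mul_cancel₀ (by exact_mod_cast r.factorial_ne_zero), one_mul, dimS]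
  split_ifs with h
  · rw [show N = r + t.toNat by omega]; norm_cast
  · rw [Nat.choose_eq_zero_of_lt (by omega)]; simp

end

end Groth.Agent.GrSyz
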