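import Groth.Agent.GrSyz.Res
import Mathlib.LinearAlgebra.Matrix.ToLinearEquiv
import Mathlib.RingTheory.Polynomial.UniqueFactorization
import Mathlib.RingTheory.Ideal.Quotient.Operations

/-! A square block of the last matrix of a resolution of length two. -/

namespace Groth.Agent.GrSyz

open Finset MvPolynomial

universe u

variable {k : Type u} [Field k] {n : ℕ}

local notation "S" => MvPolynomial (Fin n) k

/-- `e` selects columns vanishing outside the rows selected by `f`, the square block having entries
in the irrelevant ideal: impossible if `D1` is injective and torsion-free cokernel. -/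
theorem no_block {N : Type u} [AddCommGroup N] [Module (MvPolynomial (Fin n) k) N]
    [Module.IsTorsionFree (MvPolynomial (Fin n) k) N]
    {p q m : ℕ} (D : Matrix (Fin p) (Fin q) S) (φ : (Fin p → S) →ₗ[S] N)
    (hex : LinearMap.ker φ = LinearMap.range D.mulVecLin) (hinj : Function.Injective D.mulVecLin)
    (f : Fin (m + 1) → Fin p) (e : Fin (m + 1) → Fin q) (he : Function.Injective e)
    (hzero : ∀ l, l ∉ Set.range f → ∀ s, D l (e s) = 0)
    (hcc : ∀ l s, constantCoeff (D l (e s)) = 0) : False := by
  classical
  set B : Matrix (Fin (m + 1)) (Fin (m + 1)) S := D.submatrix f e with hB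
  let ext : (Fin (m + 1) → S) → (Fin q → S) := fun v => ∑ s, Pi.single (e s) (v s)
  have hext : ∀ v l, D.mulVecLin (ext v) l = ∑ s, D l (e s) * v s := fun v l => by
    simp only [ext, map_sum, Finset.sum_apply, Matrix.mulVecLin_apply, Matrix.mulVec_single,
      Pi.smul_apply, Matrix.col_apply]
    exact sum_congr rfl fun s _ => by simp [mul_comm]
  have hextv : ∀ v s, ext v (e s) = v s := fun v s => by
    simp only [ext, Finset.sum_apply]
    rw [Finset.sum_eq_single s (fun s' _ h => Pi.single_eq_of_ne (fun h' => h (he h'.symm)) _)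
      (fun h => absurd (mem_univ s) h), Pi.single_eq_same]
  by_cases hdet : B.det = 0
  · obtain ⟨v, hv, hBv⟩ := Matrix.exists_mulVec_eq_zero_iff.2 hdet
    have h0 : D.mulVecLin (ext v) = D.mulVecLin 0 := by
      rw [map_zero]
      funext l
      rw [hext]
      by_cases hl : l ∈ Set.range f
      · obtain ⟨l, rfl⟩ := hl
        exact congrFun hBv l
      · exact sum_eq_zero fun s _ => by rw [hzero l hl s, zero_mul]
    refine hv (funext fun s => ?_)
    rw [← hextv v s, hinj h0]; rfl
  · have hnu : ¬ IsUnit B.det := fun h => by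
      have h1 := h.map (constantCoeff (R := k) (σ := Fin n))
      rw [RingHom.map_det, show (constantCoeff (R := k) (σ := Fin n)).mapMatrix B = 0 from
        Matrix.ext fun a b => hcc (f a) b, Matrix.det_zero] at h1
      exact not_isUnit_zero h1
    obtain ⟨π, hπ, hdvd⟩ := WfDvdMonoid.exists_irreducible_factor hnu hdet
    have hp : Prime π := UniqueFactorizationMonoid.irreducible_iff_prime.1 hπ
    set P := Ideal.span {π} with hP
    haveI : P.IsPrime := (Ideal.span_singleton_prime hp.ne_zero).2 hp
    have hdet' : ((Ideal.Quotient.mk P).mapMatrix B).det = 0 := by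
      rw [← RingHom.map_det, Ideal.Quotient.eq_zero_iff_mem, hP, Ideal.mem_span_singleton]
      exact hdvd
    obtain ⟨vb, hv, hBv⟩ := Matrix.exists_mulVec_eq_zero_iff.2 hdet'
    choose v hvb using fun s => Ideal.Quotient.mk_surjective (vb s)
    have hdiv : ∀ l, π ∣ D.mulVecLin (ext v) l := by
      intro l
      rw [hext]
      by_cases hl : l ∈ Set.range f
      · obtain ⟨l, rfl⟩ := hl
        rw [← Ideal.mem_span_singleton, ← hP, ← Ideal.Quotient.eq_zero_iff_mem, map_sum]
        have := congrFun hBv l
        simp only [Matrix.mulVec, dotProduct, RingHom.mapMatrix_apply, Matrix.map_apply, Pi.zero_apply] at this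
        simpa [map_mul, hvb, hB] using this
      · rw [sum_eq_zero fun s _ => by rw [hzero l hl s, zero_mul]]
        exact dvd_zero π
    choose u hu using hdiv
    have hw : D.mulVecLin (ext v) = π • u := funext hu
    have hu0 : φ u = 0 := by
      have h0 : π • φ u = 0 := by
        rw [← map_smul, ← hw]
        exact (hex.symm ▸ LinearMap.mem_range_self _ (ext v) : D.mulVecLin (ext v) ∈ LinearMap.ker φ)
      exact (smul_eq_zero.1 h0).resolve_left hp.ne_zero
    obtain ⟨x, hx⟩ : u ∈ LinearMap.range D.mulVecLin := hex ▸ hu0
    have hvx : ext v = π • x := hinj (by rw [map_smul, hx, hw])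
    refine hv (funext fun s => ?_)
    rw [← hvb s, ← hextv v s, hvx, Pi.zero_apply, Ideal.Quotient.eq_zero_iff_mem, hP, Ideal.mem_span_singleton]
    exact Dvd.intro _ rfl

end Groth.Agent.GrSyz
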