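import Groth.Agent.GrSyz.Compare
import Groth.Agent.RegularLocal.GlobalDim
import Mathlib.RingTheory.RegularLocalRing.Polynomial
import Mathlib.RingTheory.LocalProperties.ProjectiveDimension
import Mathlib.RingTheory.KrullDimension.Polynomial
import Mathlib.RingTheory.KrullDimension.Field
import Mathlib.RingTheory.Nakayama

/-! Projective dimension and the length of a minimal resolution. -/

namespace Groth.Agent.GrSyz

open Finset MvPolynomial CategoryTheory

universe u

noncomputable section

variable {k : Type u} [Field k] {n : ℕ}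

local notation "S" => MvPolynomial (Fin n) k

/-- Hilbert's syzygy theorem -/
theorem pdLE_mvPolynomial (M : Type u) [AddCommGroup M] [Module (MvPolynomial (Fin n) k) M]
    [Module.Finite (MvPolynomial (Fin n) k) M] :
    HasProjectiveDimensionLE (ModuleCat.of (MvPolynomial (Fin n) k) M) n := by
  rw [ModuleCat.hasProjectiveDimensionLE_iff_forall_maximalSpectrum]
  intro m
  haveI : IsRegularLocalRing (Localization.AtPrime m.asIdeal) :=
    IsRegularRing.isRegularLocalRing_localization m.asIdeal
  have h := RegularLocal.GlobalDim.pdLT (R := Localization.AtPrime m.asIdeal)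
    ((ModuleCat.of S M).localizedModule m.asIdeal.primeCompl)
  have hdim : ringKrullDim S = n := by
    simp [MvPolynomial.ringKrullDim_of_isNoetherianRing, ringKrullDim_eq_zero_of_field]
  have h1 : ((IsLocalRing.maximalIdeal (Localization.AtPrime m.asIdeal)).spanFinrank : WithBot ℕ∞) ≤ (n : WithBot ℕ∞) := by
    rw [IsRegularLocalRing.spanFinrank_maximalIdeal, IsLocalization.AtPrime.ringKrullDim_eq_height m.asIdeal]
    exact le_of_le_of_eq (Ideal.height_le_ringKrullDim_of_ne_top m.isMaximal.ne_top) hdim
  haveI := h
  exact hasProjectiveDimensionLT_of_ge _ _ (n + 1) (Nat.succ_le_succ (by exact_mod_cast h1))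

variable {M : Type u} [AddCommGroup M] [Module k M] [Module (MvPolynomial (Fin n) k) M]
  [IsScalarTower k (MvPolynomial (Fin n) k) M] {ℳ : ℤ → Submodule k M} [DirectSum.Decomposition ℳ]
  [SetLike.GradedSMul (_root_.GrSyz.stdGr k (Fin n)) ℳ]
  (F : _root_.GrSyz.FreeRes (_root_.GrSyz.stdGr k (Fin n)) ℳ)

/-- the module covered by the `i`-th term -/
def img : ℕ → ModuleCat.{u} (MvPolynomial (Fin n) k)
  | 0 => ModuleCat.of S M
  | i + 1 => ModuleCat.of S (kerAt F i)

/-- the cover of `img F i` by the `i`-th term -/
def cover : (i : ℕ) → (Fin (F.rk i) → S) →ₗ[S] img F i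
  | 0 => F.augLin
  | i + 1 => (F.dLin i).codRestrict (kerAt F i) fun v => range_dLin F i ▸ LinearMap.mem_range_self _ v

lemma cover_surjective : ∀ i, Function.Surjective (cover F i)
  | 0 => F.aug_surjective
  | i + 1 => fun y => by
    obtain ⟨y, hy⟩ := y
    rw [← range_dLin] at hy
    obtain ⟨v, hv⟩ := hy
    exact ⟨v, Subtype.ext hv⟩

lemma ker_cover : ∀ i, LinearMap.ker (cover F i) = kerAt F i
  | 0 => rfl
  | i + 1 => LinearMap.ker_codRestrict _ _ _

lemma pdLE_img_iff (m : ℕ) (i : ℕ) :
    HasProjectiveDimensionLE (img F i) m ↔ Module.Projective S (img F (i + m)) := by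
  induction m generalizing i with
  | zero => exact RegularLocal.GlobalDim.pdLT_one (M := img F i)
  | succ m ih =>
    rw [show i + (m + 1) = (i + 1) + m by omega, ← ih]
    have h := RegularLocal.GlobalDim.pdLT_syzygy (cover F i) (cover_surjective F i) m
    rw [ker_cover] at h
    exact h

variable {F}

theorem hasLengthLE_iff (hF : F.IsMinimal (_root_.GrSyz.irrel (_root_.GrSyz.stdGr k (Fin n))).toIdeal) (m : ℕ) :
    F.HasLengthLE m ↔ HasProjectiveDimensionLE (ModuleCat.of S M) m := by
  have h := pdLE_img_iff F m 0
  rw [zero_add] at h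
  rw [show ModuleCat.of S M = img F 0 from rfl, h]
  constructor
  · intro hlen
    have h0 : kerAt F m = ⊥ := by
      rw [← range_dLin, LinearMap.range_eq_bot]
      haveI : IsEmpty (Fin (F.rk (m + 1))) := by rw [hlen (m + 1) (Nat.lt_succ_self m)]; infer_instance
      exact LinearMap.ext fun v => by rw [show v = 0 from Subsingleton.elim _ _, map_zero, map_zero]
    have hinj : Function.Injective (cover F m) := by rw [← LinearMap.ker_eq_bot, ker_cover, h0]
    exact Module.Projective.of_equiv (LinearEquiv.ofBijective (cover F m) ⟨hinj, cover_surjective F m⟩)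
  · intro hproj
    obtain ⟨s, hs⟩ := Module.projective_lifting_property (cover F m) LinearMap.id (cover_surjective F m)
    set K := kerAt F m with hK
    let ρ : (Fin (F.rk m) → S) →ₗ[S] (Fin (F.rk m) → S) := LinearMap.id - s ∘ₗ cover F m
    have hρ : ∀ v, ρ v ∈ K := fun v => by
      rw [hK, ← ker_cover, LinearMap.mem_ker]
      have := LinearMap.congr_fun hs (cover F m v)
      simp only [LinearMap.comp_apply, LinearMap.id_apply] at this
      simp [ρ, this]
    have hcc : ∀ v ∈ K, ∀ a, constantCoeff (v a) = 0 := fun v hv a => by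
      cases m with
      | zero => exact cc_ker_aug hF hv a
      | succ j => exact cc_ker_dLin hF hv a
    set 𝔪 := (_root_.GrSyz.irrel (_root_.GrSyz.stdGr k (Fin n))).toIdeal
    have hle : K ≤ 𝔪 • K := fun v hv => by
      have hv' : ρ v = v := by
        have : cover F m v = 0 := by rw [← LinearMap.mem_ker, ker_cover, ← hK]; exact hv
        simp [ρ, this]
      rw [← hv', pi_eq_sum_univ' v, map_sum]
      refine Submodule.sum_mem _ fun a _ => ?_
      rw [map_smul]
      exact Submodule.smul_mem_smul ((mem_irrel_iff _).2 (hcc v hv a)) (hρ _)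
    obtain ⟨x, hx1, hx⟩ := Submodule.exists_sub_one_mem_and_smul_eq_zero_of_fg_of_le_smul 𝔪 K
      (IsNoetherian.noetherian K) hle
    have hx0 : x ≠ 0 := by
      rintro rfl
      have := (mem_irrel_iff _).1 hx1
      simp at this
    have h0 : K = ⊥ := (Submodule.eq_bot_iff _).2 fun v hv => by
      have := hx v hv
      exact (smul_eq_zero.1 this).resolve_left hx0
    refine hasLengthLE_of_rk hF (rk_succ_eq_zero hF ?_)
    rw [← LinearMap.range_eq_bot, range_dLin, ← hK, h0]

end

end Groth.Agent.GrSyz
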