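import Groth.Agent.GrSyz.Basic
import Mathlib.LinearAlgebra.Matrix.ToLin
import Mathlib.RingTheory.FiniteType
import Mathlib.LinearAlgebra.FiniteDimensional.Basic
import Mathlib.Data.Fintype.Card

/-! Minimal graded free resolutions: existence and basic consequences of minimality. -/

namespace Groth.Agent.GrSyz

open Finset MvPolynomial

universe u

noncomputable section

variable {k : Type u} [Field k] {n : ℕ}

local notation "S" => MvPolynomial (Fin n) k
local notation "ηη" => _root_.GrSyz.stdGr k (Fin n)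

lemma mulVecLin_eq {R : Type*} [CommRing R] {p q : ℕ} (D : Matrix (Fin p) (Fin q) R) :
    Matrix.mulVecLin D = Fintype.linearCombination R (fun b a => D a b) := by
  refine LinearMap.ext fun v => funext fun a => ?_
  simp [Matrix.mulVec, dotProduct, Fintype.linearCombination_apply, mul_comm]

/-- one step of the construction -/
structure St (k : Type u) [Field k] (n : ℕ) where
  r : ℕ
  deg : Fin r → ℤ
  N : Submodule (MvPolynomial (Fin n) k) (Fin r → MvPolynomial (Fin n) k)
  cl : (free deg).Closed N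
  irr : ∀ v ∈ N, ∀ b, constantCoeff (v b) = 0

namespace St

variable (t : St k n)

lemma ex : ∃ (p : ℕ) (f : Fin p → (Fin t.r → S)) (deg : Fin p → ℤ), (∀ b, (free t.deg).Hom (deg b) (f b)) ∧
    LinearMap.range (Fintype.linearCombination S f) = t.N ∧
    ∀ v, Fintype.linearCombination S f v = 0 → ∀ b, constantCoeff (v b) = 0 :=
  (free t.deg).exists_min_gens t.cl (IsNoetherian.noetherian t.N)

def p : ℕ := t.ex.choose
def gens : Fin t.p → (Fin t.r → S) := t.ex.choose_spec.choose
def gdeg : Fin t.p → ℤ := t.ex.choose_spec.choose_spec.choose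
lemma gens_hom : ∀ b, (free t.deg).Hom (t.gdeg b) (t.gens b) := t.ex.choose_spec.choose_spec.choose_spec.1
lemma gens_range : LinearMap.range (Fintype.linearCombination S t.gens) = t.N :=
  t.ex.choose_spec.choose_spec.choose_spec.2.1

/-- the following step -/
def next : St k n where
  r := t.p
  deg := t.gdeg
  N := LinearMap.ker (Fintype.linearCombination S t.gens)
  cl := closed_ker (free t.deg) t.gens t.gdeg t.gens_hom
  irr v hv := t.ex.choose_spec.choose_spec.choose_spec.2.2 v hv

end St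

def seq (t : St k n) : ℕ → St k n
  | 0 => t
  | i + 1 => (seq t i).next

variable {M : Type u} [AddCommGroup M] [Module k M] [Module (MvPolynomial (Fin n) k) M]
  [IsScalarTower k (MvPolynomial (Fin n) k) M] (ℳ : ℤ → Submodule k M) [DirectSum.Decomposition ℳ]
  [SetLike.GradedSMul (_root_.GrSyz.stdGr k (Fin n)) ℳ]

theorem exists_minimal [Module.Finite (MvPolynomial (Fin n) k) M] :
    ∃ F : _root_.GrSyz.FreeRes (_root_.GrSyz.stdGr k (Fin n)) ℳ,
      F.IsMinimal (_root_.GrSyz.irrel (_root_.GrSyz.stdGr k (Fin n))).toIdeal := by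
  let G : Gr k n M := ofDecomp ℳ
  obtain ⟨r, f, deg, hf, hr, hmin⟩ := G.exists_min_gens G.closed_top (Module.Finite.fg_top)
  let t0 : St k n := ⟨r, deg, LinearMap.ker (Fintype.linearCombination S f), closed_ker G f deg hf,
    fun v hv b => hmin v hv b⟩
  let F : _root_.GrSyz.FreeRes (_root_.GrSyz.stdGr k (Fin n)) ℳ :=
    { rk := fun i => (seq t0 i).r
      deg := fun i => (seq t0 i).deg
      d := fun i => Matrix.of fun a b => (seq t0 i).gens b a
      aug := f
      d_mem := fun i a b => (free_hom_iff _ _ _).1 ((seq t0 i).gens_hom b) a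
      aug_mem := fun b => (ofDecomp_hom_iff ℳ _ _).1 (hf b)
      aug_surjective := LinearMap.range_eq_top.1 hr
      exact_zero := by
        rw [mulVecLin_eq]
        exact ((seq t0 0).gens_range).symm
      exact_succ := fun i => by
        rw [mulVecLin_eq, mulVecLin_eq]
        exact ((seq t0 (i + 1)).gens_range).symm }
  refine ⟨F, fun i a b => (mem_irrel_iff _).2 ?_⟩
  refine (seq t0 i).irr ((seq t0 i).gens b) ?_ a
  rw [← (seq t0 i).gens_range]
  classical
  exact ⟨Pi.single b 1, by simp [Fintype.linearCombination_apply_single]⟩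

variable {ℳ} (F : _root_.GrSyz.FreeRes (_root_.GrSyz.stdGr k (Fin n)) ℳ)

/-- columns of the differential -/
def col (i : ℕ) (b : Fin (F.rk (i + 1))) : Fin (F.rk i) → S := fun a => F.d i a b

lemma col_hom (i : ℕ) (b : Fin (F.rk (i + 1))) : (free (F.deg i)).Hom (F.deg (i + 1) b) (col F i b) :=
  (free_hom_iff _ _ _).2 fun a => F.d_mem i a b

lemma dLin_eq (i : ℕ) : F.dLin i = Fintype.linearCombination S (col F i) := mulVecLin_eq _

lemma dLin_single (i : ℕ) (b : Fin (F.rk (i + 1))) : F.dLin i (Pi.single b 1) = col F i b := by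
  rw [dLin_eq]; simp [Fintype.linearCombination_apply_single]

lemma dLin_pr (i : ℕ) (g : ℤ) (v : Fin (F.rk (i + 1)) → S) :
    (free (F.deg i)).pr g (F.dLin i v) = F.dLin i ((free (F.deg (i + 1))).pr g v) := by
  rw [dLin_eq]
  exact pr_lc (free (F.deg i)) (col F i) (F.deg (i + 1)) (col_hom F i) g v

lemma aug_hom (b : Fin (F.rk 0)) : (ofDecomp (n := n) ℳ).Hom (F.deg 0 b) (F.aug b) :=
  (ofDecomp_hom_iff ℳ _ _).2 (F.aug_mem b)

lemma augLin_pr (g : ℤ) (v : Fin (F.rk 0) → S) :
    (ofDecomp (n := n) ℳ).pr g (F.augLin v) = F.augLin ((free (F.deg 0)).pr g v) :=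
  pr_lc (ofDecomp ℳ) F.aug (F.deg 0) (aug_hom F) g v

lemma dLin_comp (i : ℕ) (v : Fin (F.rk (i + 2)) → S) : F.dLin i (F.dLin (i + 1) v) = 0 := by
  have : F.dLin (i + 1) v ∈ LinearMap.ker (F.dLin i) := (F.exact_succ i).symm ▸ ⟨v, rfl⟩
  exact this

section minimal

variable {F} (hF : F.IsMinimal (_root_.GrSyz.irrel (_root_.GrSyz.stdGr k (Fin n))).toIdeal)
include hF

lemma cc_dLin (i : ℕ) (v : Fin (F.rk (i + 1)) → S) (a : Fin (F.rk i)) : constantCoeff (F.dLin i v a) = 0 := by
  rw [dLin_eq, Fintype.linearCombination_apply, Finset.sum_apply, map_sum]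
  refine sum_eq_zero fun b _ => ?_
  simp [col, (mem_irrel_iff _).1 (hF i a b)]

lemma cc_ker_aug {v : Fin (F.rk 0) → S} (hv : F.augLin v = 0) (a : Fin (F.rk 0)) : constantCoeff (v a) = 0 := by
  obtain ⟨w, rfl⟩ : v ∈ LinearMap.range (F.dLin 0) := F.exact_zero ▸ hv
  exact cc_dLin hF 0 w a

lemma cc_ker_dLin {i : ℕ} {v : Fin (F.rk (i + 1)) → S} (hv : F.dLin i v = 0) (a : Fin (F.rk (i + 1))) :
    constantCoeff (v a) = 0 := by
  obtain ⟨w, rfl⟩ : v ∈ LinearMap.range (F.dLin (i + 1)) := F.exact_succ i ▸ hv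
  exact cc_dLin hF (i + 1) w a

lemma col_ne_zero (i : ℕ) (b : Fin (F.rk (i + 1))) : col F i b ≠ 0 := fun h => by
  have := cc_ker_dLin hF (i := i) (v := Pi.single b 1) (by rw [dLin_single, h]) b
  simp at this

lemma entry_eq_zero (i : ℕ) (a : Fin (F.rk i)) (b : Fin (F.rk (i + 1))) (h : F.deg (i + 1) b ≤ F.deg i a) :
    F.d i a b = 0 := by
  have hmem := F.d_mem i a b
  rcases (sub_nonpos.2 h).lt_or_eq with h' | h'
  · exact stdGr_eq_zero_of_neg h' hmem
  · rw [h'] at hmem
    rw [stdGr_eq_C hmem, (mem_irrel_iff _).1 (hF i a b), map_zero]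

lemma rk_succ_eq_zero {i : ℕ} (h : F.dLin i = 0) : F.rk (i + 1) = 0 := by
  by_contra hne
  refine col_ne_zero hF i ⟨0, Nat.pos_of_ne_zero hne⟩ ?_
  rw [← dLin_single, h, LinearMap.zero_apply]

lemma hasLengthLE_of_rk {m : ℕ} (h : F.rk (m + 1) = 0) : F.HasLengthLE m := by
  suffices ∀ j, F.rk (m + 1 + j) = 0 by
    intro i hi
    obtain ⟨j, rfl⟩ := Nat.exists_eq_add_of_le (show m + 1 ≤ i from hi)
    exact this j
  intro j
  induction j with
  | zero => exact h
  | succ j ih =>
    refine rk_succ_eq_zero hF ?_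
    have : IsEmpty (Fin (F.rk (m + 1 + j))) := by rw [ih]; infer_instance
    exact LinearMap.ext fun v => Subsingleton.elim _ _

end minimal

end

end Groth.Agent.GrSyz
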