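import Groth.Agent.GrSyz.PD
import Mathlib.CategoryTheory.Monoidal.Tor
import Mathlib.Algebra.Category.ModuleCat.Monoidal.Symmetric
import Mathlib.Algebra.Category.ModuleCat.Monoidal.Closed
import Mathlib.Algebra.Homology.ShortComplex.ModuleCat
import Mathlib.RingTheory.Length
import Mathlib.LinearAlgebra.TensorProduct.Pi

/-! Tor against the residue field through a minimal resolution. -/

namespace Groth.Agent.GrSyz

open Finset MvPolynomial CategoryTheory Limits MonoidalCategory
open scoped TensorProduct

universe u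

noncomputable section

variable {k : Type u} [Field k] {n : ℕ}

local notation "S" => MvPolynomial (Fin n) k
local notation "𝔪" => HomogeneousIdeal.toIdeal (_root_.GrSyz.irrel (_root_.GrSyz.stdGr k (Fin n)))

variable {M : Type u} [AddCommGroup M] [Module k M] [Module (MvPolynomial (Fin n) k) M]
  [IsScalarTower k (MvPolynomial (Fin n) k) M] {ℳ : ℤ → Submodule k M} [DirectSum.Decomposition ℳ]
  [SetLike.GradedSMul (_root_.GrSyz.stdGr k (Fin n)) ℳ]
  (F : _root_.GrSyz.FreeRes (_root_.GrSyz.stdGr k (Fin n)) ℳ)

/-- the complex of a resolution -/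
def cplx : ChainComplex (ModuleCat.{u} (MvPolynomial (Fin n) k)) ℕ :=
  ChainComplex.of (fun i => ModuleCat.of S (Fin (F.rk i) → S)) (fun i => ModuleCat.ofHom (F.dLin i))
    (fun i => ModuleCat.hom_ext (LinearMap.ext fun v => dLin_comp F i v))

lemma cplx_d (i : ℕ) : (cplx F).d (i + 1) i = ModuleCat.ofHom (F.dLin i) := by
  simp [cplx]

/-- the projective resolution of a resolution -/
def projRes : ProjectiveResolution (ModuleCat.of (MvPolynomial (Fin n) k) M) where
  complex := cplx F
  projective i := (IsProjective.iff_projective (Fin (F.rk i) → S)).1 inferInstance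
  π := (ChainComplex.toSingle₀Equiv _ _).symm ⟨ModuleCat.ofHom F.augLin, by
    rw [cplx_d]
    refine ModuleCat.hom_ext (LinearMap.ext fun v => ?_)
    change F.augLin (F.dLin 0 v) = 0
    have : F.dLin 0 v ∈ LinearMap.ker F.augLin := F.exact_zero.symm ▸ LinearMap.mem_range_self _ v
    exact this⟩
  quasiIso := ⟨fun i => by
    cases i with
    | zero =>
      rw [ChainComplex.quasiIsoAt₀_iff, ShortComplex.quasiIso_iff_of_zeros']
      · skip
        refine (ShortComplex.exact_and_epi_g_iff_of_iso ?_).2
          (⟨?_, ?_⟩ : (ShortComplex.mk ((cplx F).d 1 0) (ModuleCat.ofHom F.augLin : (cplx F).X 0 ⟶ _)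
            (by rw [cplx_d]; exact ModuleCat.hom_ext (LinearMap.ext fun v => by
                  have : F.dLin 0 v ∈ LinearMap.ker F.augLin := F.exact_zero.symm ▸ LinearMap.mem_range_self _ v
                  exact this))).Exact ∧ Epi _)
        · exact ShortComplex.isoMk (Iso.refl _) (Iso.refl _) (Iso.refl _) ((Category.id_comp _).trans (Category.comp_id _).symm) ((Category.id_comp _).trans (Category.comp_id _).symm)
        · rw [ShortComplex.moduleCat_exact_iff_range_eq_ker]
          change LinearMap.range ((cplx F).d 1 0).hom = LinearMap.ker F.augLin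
          rw [cplx_d]
          exact F.exact_zero.symm
        · exact (ModuleCat.epi_iff_surjective _).2 F.aug_surjective
      all_goals rfl
    | succ i =>
      rw [quasiIsoAt_iff_exactAt']
      · rw [HomologicalComplex.exactAt_iff' _ (i + 2) (i + 1) i (by simp) (by simp),
          ShortComplex.moduleCat_exact_iff_range_eq_ker]
        change LinearMap.range ((cplx F).d (i + 2) (i + 1)).hom = LinearMap.ker ((cplx F).d (i + 1) i).hom
        rw [cplx_d, cplx_d]
        exact (F.exact_succ i).symm
      · apply ChainComplex.exactAt_succ_single_obj⟩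

variable {F}

theorem length_tor (hF : F.IsMinimal 𝔪) (i : ℕ) :
    Module.length S (((Tor (ModuleCat.{u} (MvPolynomial (Fin n) k)) i).obj
      (ModuleCat.of S (S ⧸ (𝔪 : Ideal S)))).obj (ModuleCat.of S M)) = (F.rk i : ℕ∞) := by
  classical
  set T := (tensoringLeft (ModuleCat.{u} S)).obj (ModuleCat.of S (S ⧸ (𝔪 : Ideal S))) with hT
  let K := (T.mapHomologicalComplex (ComplexShape.down ℕ)).obj (projRes F).complex
  have hd : ∀ j, K.d (j + 1) j = 0 := fun j => by
    change T.map ((cplx F).d (j + 1) j) = 0
    rw [cplx_d]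
    refine ModuleCat.hom_ext (TensorProduct.ext' fun q v => ?_)
    change q ⊗ₜ[S] (F.dLin j v) = 0
    rw [pi_eq_sum_univ' (F.dLin j v), TensorProduct.tmul_sum]
    refine sum_eq_zero fun a _ => ?_
    rw [← TensorProduct.smul_tmul]
    obtain ⟨w, rfl⟩ := Ideal.Quotient.mk_surjective q
    rw [Algebra.smul_def, Ideal.Quotient.algebraMap_eq, ← map_mul,
      Ideal.Quotient.eq_zero_iff_mem.2 (Ideal.mul_mem_right w _ ((mem_irrel_iff _).2 (cc_dLin hF j v a))),
      TensorProduct.zero_tmul]
  have hf : (K.sc i).f = 0 := by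
    rcases Nat.eq_zero_or_pos i with h | h
    · subst h
      change K.d ((ComplexShape.down ℕ).prev 0) 0 = 0
      rw [(ComplexShape.down ℕ).prev_eq' (show (ComplexShape.down ℕ).Rel 1 0 from rfl)]
      exact hd 0
    · change K.d ((ComplexShape.down ℕ).prev i) i = 0
      rw [(ComplexShape.down ℕ).prev_eq' (show (ComplexShape.down ℕ).Rel (i + 1) i from rfl)]
      exact hd i
  have hg : (K.sc i).g = 0 := by
    change K.d i ((ComplexShape.down ℕ).next i) = 0
    cases i with
    | zero => exact K.shape _ _ (by simp)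
    | succ j =>
      rw [(ComplexShape.down ℕ).next_eq' (show (ComplexShape.down ℕ).Rel (j + 1) j from rfl)]
      exact hd j
  let e₁ := (projRes F).isoLeftDerivedObj T i
  let e₂ : K.homology i ≅ K.X i := (ShortComplex.HomologyData.ofZeros (K.sc i) hf hg).left.homologyIso
  let e₃ : ((S ⧸ (𝔪 : Ideal S)) ⊗[S] (Fin (F.rk i) → S)) ≃ₗ[S] (Fin (F.rk i) → S ⧸ (𝔪 : Ideal S)) :=
    TensorProduct.piScalarRight S S (S ⧸ (𝔪 : Ideal S)) (Fin (F.rk i))
  change Module.length S ((T.leftDerived i).obj (ModuleCat.of S M)) = _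
  rw [((e₁ ≪≫ e₂).toLinearEquiv.trans e₃).length_eq, Module.length_pi_of_fintype]
  haveI : (𝔪 : Ideal S).IsMaximal := by
    have : (𝔪 : Ideal S) = RingHom.ker (constantCoeff (R := k) (σ := Fin n)) := Ideal.ext mem_irrel_iff
    rw [this]
    exact RingHom.ker_isMaximal_of_surjective _ fun c => ⟨C c, constantCoeff_C _ c⟩
  haveI : IsSimpleModule S (S ⧸ (𝔪 : Ideal S)) := isSimpleModule_iff_isCoatom.2 (Ideal.isMaximal_def.1 inferInstance)
  simp [Module.length_eq_one]

end

end Groth.Agent.GrSyz
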